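import Mathlib
import Cfsg.Agent.SM.Ti.Box
import Cfsg.Agent.H251.GeoCardC
import Cfsg.Agent.H907.MxSymp2_m3
import Cfsg.Agent.H922.OddDecomp
import Cfsg.Agent.H920.SympC
import Cfsg.Agent.H917.LinSplit
import Cfsg.Agent.H919.AschSplit
import Cfsg.Agent.H914.Sub2
import Cfsg.Agent.S2653
import Cfsg.Agent.S2119
import Cfsg.Agent.S0254
import Cfsg.Agent.S0813
import Cfsg.Agent.H934.OutCl
import Mathlib.GroupTheory.Perm.Cycle.Type
import Cfsg.Agent.S0243
import Cfsg.Agent.S0814
import Cfsg.Agent.S0815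
import Cfsg.Agent.ClassicalGeometry.PSL2Basic
import Cfsg.Agent.LieClassical.FieldTransfer
import Cfsg.Agent.LieClassical.SUBasic
import Cfsg.Agent.LieClassical.SympCenter
import Cfsg.Agent.H175.BdSp_m3
import Cfsg.Agent.S0816
import Cfsg.Agent.S0817
import Cfsg.Agent.S0818
import Cfsg.Agent.H47.Fd.Base
import Cfsg.Agent.H967.CopChev
import Cfsg.Agent.ChevalleyStructure.TorusRange
import Cfsg.Agent.S1033
import Cfsg.Agent.S1054
import Cfsg.Agent.S1055
import Cfsg.Agent.H967.CopD4_m3
import Cfsg.Agent.ChevalleyStructure.E6H1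
import Cfsg.Agent.S1070
import Cfsg.Agent.S1071
import Cfsg.Agent.H680.TRowD4
import Cfsg.Agent.H60.TRowTwF4
import Cfsg.Agent.S1072
import Cfsg.Agent.S1073
import Cfsg.Agent.S1162
import Cfsg.Agent.S2127
import Cfsg.Agent.S2128
import Cfsg.Agent.H88.RkRee_m3
import Cfsg.Agent.H680.XRowTwF4
import Cfsg.Agent.H203.LSTor_m3
import Cfsg.Agent.H203.LSE6_mg_m3
import Cfsg.Agent.H203.LSTwF4
import Cfsg.Agent.H867.TitsOut
import Cfsg.Agent.S1066
import Cfsg.Agent.S1067
import Cfsg.Agent.S1068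
import Cfsg.Agent.S1074
import Cfsg.Agent.S2129
import Cfsg.Agent.S2130
import Cfsg.Agent.FastGrp
import Cfsg.Agent.Prune
set_option linter.all false

section
prune_inst 0x7f00000000000000000000000000000000000000000000000000000000000000000000000000000000000000000000000000000000000000000000000000000000000000000000000000000000000000003fffffffffffffffffffffffffffbeffbdffffffff

-- part: H462/Ppd/FieldBase
section
set_option linter.all false
open scoped Cfsg.Agent.FastGrp

/-!
# TEAM PPD (S5948): field data, the general frame (helper462)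

`FD T p` : the field data of `good_of_field`. `fd_of_matrix` : field data of `G / Z(G)`, `G` a finite group of
matrices stable under the Frobenius, from a diagonal element.
-/

set_option autoImplicit false

namespace Cfsg.Agent.H462.Ppd

open Matrix

universe u v

/-- Field data of `T` in characteristic `p`. -/
def FD (T : Type v) [Group T] (p : ℕ) : Prop :=
  ∃ (b c : ℕ) (φ : MulAut T) (x : T), Nat.card (MulAut T) = Nat.card T * (c * b) ∧
    (∀ r : ℕ, r.Prime → 7 ≤ r → r ∣ c → r ∣ Nat.card T) ∧ orderOf φ = b ∧ φ x = x ^ p ∧ ¬ p ∣ orderOf x ∧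
    ∀ s : ℕ, x ^ p ^ s = x → b ∣ s

/-! ### arithmetic -/

/-- `2 (p ^ s - 1)` divisible by `p ^ f - 1` -/
theorem dvd_of_sub {p f s : ℕ} (hp : 2 ≤ p) (hf : 1 ≤ f) (h : p ^ f - 1 ∣ 2 * (p ^ s - 1)) : f ∣ s := by
  have h1 : p ^ f - 1 ∣ 2 * (p ^ Nat.gcd f s - 1) := by
    have h2 := Nat.dvd_gcd (Dvd.intro_left 2 rfl : p ^ f - 1 ∣ 2 * (p ^ f - 1)) h
    rwa [Nat.gcd_mul_left, Nat.pow_sub_one_gcd_pow_sub_one] at h2
  have hd : Nat.gcd f s ∣ f := Nat.gcd_dvd_left _ _
  by_cases h3 : Nat.gcd f s = f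
  · exact Nat.gcd_eq_left_iff_dvd.1 h3
  · exfalso
    have h0 : 0 < Nat.gcd f s := Nat.gcd_pos_of_pos_left _ hf
    have h4 : Nat.gcd f s ≤ f - 1 := by
      have := Nat.le_of_dvd hf hd
      omega
    have h5 : 2 ≤ p ^ Nat.gcd f s := hp.trans (Nat.le_self_pow h0.ne' p)
    have h6 := Nat.le_of_dvd (by omega) h1
    have h7 : p ^ Nat.gcd f s ≤ p ^ (f - 1) := Nat.pow_le_pow_right (by omega) h4
    have h8 : p ^ f = p ^ (f - 1) * p := by
      rw [← pow_succ]
      congr 1
      omega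
    have h9 : p ^ (f - 1) * 2 ≤ p ^ (f - 1) * p := Nat.mul_le_mul_left _ hp
    omega

/-- `p ^ s - 1` divisible by `p ^ f + 1` -/
theorem dvd_of_add {p f s : ℕ} (hp : 2 ≤ p) (hf : 1 ≤ f) (h : p ^ f + 1 ∣ p ^ s - 1) : 2 * f ∣ s := by
  have h0 : p ^ f + 1 ∣ p ^ (2 * f) - 1 := by
    have h1 : p ^ (2 * f) - 1 = (p ^ f + 1) * (p ^ f - 1) := by
      rw [mul_comm 2 f, pow_mul]
      have := Nat.sq_sub_sq (p ^ f) 1
      rwa [one_pow] at this
    rw [h1]
    exact Dvd.intro _ rfl
  have h1 : p ^ f + 1 ∣ p ^ Nat.gcd (2 * f) s - 1 := by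
    have h2 := Nat.dvd_gcd h0 h
    rwa [Nat.pow_sub_one_gcd_pow_sub_one] at h2
  have hd : Nat.gcd (2 * f) s ∣ 2 * f := Nat.gcd_dvd_left _ _
  by_cases h3 : Nat.gcd (2 * f) s = 2 * f
  · exact Nat.gcd_eq_left_iff_dvd.1 h3
  · exfalso
    have h4 : 0 < Nat.gcd (2 * f) s := Nat.gcd_pos_of_pos_left _ (by omega)
    have h5 : Nat.gcd (2 * f) s ≤ f := by
      obtain ⟨c, hc⟩ := hd
      have hc0 : c ≠ 0 := by
        rintro rfl
        omega
      have hc1 : c ≠ 1 := by
        rintro rfl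
        rw [mul_one] at hc
        exact h3 hc.symm
      have hc2 : 2 ≤ c := by omega
      have h6 := Nat.mul_le_mul_left (Nat.gcd (2 * f) s) hc2
      rw [← hc] at h6
      omega
    have h6 : 2 ≤ p ^ Nat.gcd (2 * f) s := hp.trans (Nat.le_self_pow h4.ne' p)
    have h7 := Nat.le_of_dvd (by omega) h1
    have h8 : p ^ Nat.gcd (2 * f) s ≤ p ^ f := Nat.pow_le_pow_right (by omega) h5
    omega

/-! ### central quotients -/

theorem map_center {G : Type u} [Group G] (Φ : MulAut G) : (Subgroup.center G).map (Φ : G →* G) = Subgroup.center G :=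
  Subgroup.characteristic_iff_map_eq.1 inferInstance Φ

/-- the automorphism of the central quotient -/
noncomputable def qaut {G : Type u} [Group G] : MulAut G →* MulAut (G ⧸ Subgroup.center G) where
  toFun Φ := QuotientGroup.congr _ _ Φ (map_center Φ)
  map_one' := by
    ext x
    induction x using QuotientGroup.induction_on with
    | H x => rfl
  map_mul' a b := by
    ext x
    induction x using QuotientGroup.induction_on with
    | H x => rfl

theorem qaut_mk {G : Type u} [Group G] (Φ : MulAut G) (x : G) :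
    qaut Φ (QuotientGroup.mk x : G ⧸ Subgroup.center G) = QuotientGroup.mk (Φ x) := rfl

theorem fd_of_central {G : Type u} [Group G] [Finite G] {p : ℕ} (hp : p.Prime) {b c N e : ℕ} (Φ : MulAut G) (X : G)
    (hΦ : Φ ^ b = 1) (hX : Φ X = X ^ p) (hXN : X ^ N = 1) (hpN : ¬ p ∣ N) (he1 : 1 ≤ e) (he2 : e ≤ 2)
    (hinj : ∀ j : ℕ, X ^ j ∈ Subgroup.center G → N ∣ e * j) (hnum : ∀ s : ℕ, N ∣ e * (p ^ s - 1) → b ∣ s)
    (hcard : Nat.card (MulAut (G ⧸ Subgroup.center G)) = Nat.card (G ⧸ Subgroup.center G) * (c * b))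
    (hc : ∀ r : ℕ, r.Prime → 7 ≤ r → r ∣ c → r ∣ N) : FD (G ⧸ Subgroup.center G) p := by
  set x : G ⧸ Subgroup.center G := QuotientGroup.mk X with hx
  have hpow : ∀ j : ℕ, x ^ j = 1 ↔ X ^ j ∈ Subgroup.center G := by
    intro j
    rw [hx, ← QuotientGroup.mk_pow, QuotientGroup.eq_one_iff]
  have hfix : ∀ s : ℕ, x ^ p ^ s = x → b ∣ s := by
    intro s hs
    apply hnum
    apply hinj
    rw [← hpow]
    have h1 : 1 ≤ p ^ s := Nat.one_le_pow _ _ hp.pos
    have h2 : x ^ (p ^ s - 1) * x = x := by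
      rw [← pow_succ, Nat.sub_add_cancel h1, hs]
    exact mul_eq_right.1 h2
  have hact : ∀ s : ℕ, (qaut Φ ^ s) x = x ^ p ^ s := by
    intro s
    induction s with
    | zero => simp
    | succ s ih =>
      have h1 : qaut Φ x = x ^ p := by rw [hx, qaut_mk, hX, QuotientGroup.mk_pow]
      rw [pow_succ, MulAut.mul_apply, h1, map_pow, ih, ← pow_mul, pow_succ]
  refine ⟨b, c, qaut Φ, x, hcard, ?_, ?_, ?_, ?_, hfix⟩
  · intro r hr hr7 hrc
    have h1 := hc r hr hr7 hrc
    have h2 : X ^ orderOf x ∈ Subgroup.center G := (hpow _).1 (pow_orderOf_eq_one x)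
    have h3 := h1.trans (hinj _ h2)
    rcases hr.dvd_mul.1 h3 with h4 | h4
    · have := Nat.le_of_dvd he1 h4
      omega
    · exact h4.trans (orderOf_dvd_natCard x)
  · apply Nat.dvd_antisymm
    · apply orderOf_dvd_of_pow_eq_one
      rw [← map_pow, hΦ, map_one]
    · apply hfix
      rw [← hact, pow_orderOf_eq_one]
      rfl
  · have := hact 1
    rwa [pow_one, pow_one] at this
  · intro h1
    apply hpN
    refine h1.trans (orderOf_dvd_of_pow_eq_one ?_)
    rw [hx, ← QuotientGroup.mk_pow, hXN]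
    rfl

/-- **Field data from a group of matrices.** -/
theorem fd_of_matrix {κ : Type} [Fintype κ] [DecidableEq κ] {F : Type u} [Field F] [Finite F] {p : ℕ} (hp : p.Prime)
    {G : Type v} [Group G] [Finite G] (ι : G →* Matrix κ κ F) (hι : Function.Injective ι) (Φ : MulAut G)
    (hΦ : ∀ A i l, ι (Φ A) i l = (ι A i l) ^ p) {b : ℕ} (hb : Nat.card F = p ^ b) {b' : ℕ} (hb' : b = b') (X : G) (d : κ → F)
    (hX : ι X = diagonal d) {N e : ℕ} (hdN : ∀ i, d i ^ N = 1) (hpN : ¬ p ∣ N) (he1 : 1 ≤ e) (he2 : e ≤ 2)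
    (hcen : ∀ A ∈ Subgroup.center G, ∃ r : F, ι A = diagonal fun _ => r)
    (hinj : ∀ (j : ℕ) (r : F), (∀ i, d i ^ j = r) → N ∣ e * j)
    (hnum : ∀ s : ℕ, N ∣ e * (p ^ s - 1) → b' ∣ s) {c : ℕ}
    (hcard : Nat.card (MulAut (G ⧸ Subgroup.center G)) = Nat.card (G ⧸ Subgroup.center G) * (c * b'))
    (hc : ∀ r : ℕ, r.Prime → 7 ≤ r → r ∣ c → r ∣ N) : FD (G ⧸ Subgroup.center G) p := by
  subst hb'
  have hιpow : ∀ j : ℕ, ι (X ^ j) = diagonal (fun i => d i ^ j) := by
    intro j
    rw [map_pow, hX, diagonal_pow]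
    rfl
  refine fd_of_central hp (N := N) (e := e) Φ X ?_ ?_ ?_ hpN he1 he2 ?_ hnum hcard hc
  · have h1 : ∀ (s : ℕ) (A : G) (i l : κ), ι ((Φ ^ s) A) i l = (ι A i l) ^ p ^ s := by
      intro s
      induction s with
      | zero => intro A i l; simp
      | succ s ih =>
        intro A i l
        rw [pow_succ, MulAut.mul_apply, ih, hΦ, ← pow_mul, pow_succ']
    ext A
    apply hι
    ext i l
    have : Fintype F := Fintype.ofFinite F
    rw [h1, ← hb, Nat.card_eq_fintype_card, FiniteField.pow_card]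
    rfl
  · apply hι
    rw [hιpow]
    ext i l
    rw [hΦ, hX]
    by_cases h1 : i = l
    · subst h1
      rw [diagonal_apply_eq, diagonal_apply_eq]
    · rw [diagonal_apply_ne _ h1, diagonal_apply_ne _ h1, zero_pow hp.ne_zero]
  · apply hι
    rw [hιpow, map_one, ← diagonal_one]
    congr 1
    funext i
    exact hdN i
  · intro j hj
    obtain ⟨r, hr⟩ := hcen _ hj
    rw [hιpow] at hr
    refine hinj j r fun i => ?_
    have := congrFun (congrFun hr i) i
    rwa [diagonal_apply_eq, diagonal_apply_eq] at this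

/-! ### diagonal elements -/

section diag

variable {κ : Type} [Fintype κ] [DecidableEq κ] {F : Type u} [Field F]

/-- `θ` at `i₀`, `θ⁻¹` at `i₁` -/
def dd (θ : F) (i₀ i₁ : κ) (i : κ) : F := (if i = i₀ then θ else 1) * (if i = i₁ then θ⁻¹ else 1)

omit [Fintype κ] in
theorem dd_left {θ : F} {i₀ i₁ : κ} (h : i₀ ≠ i₁) : dd θ i₀ i₁ i₀ = θ := by
  rw [dd, if_pos rfl, if_neg h, mul_one]

omit [Fintype κ] in
theorem dd_right {θ : F} {i₀ i₁ : κ} (h : i₀ ≠ i₁) : dd θ i₀ i₁ i₁ = θ⁻¹ := by
  rw [dd, if_pos rfl, if_neg h.symm, one_mul]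

omit [Fintype κ] in
theorem dd_other {θ : F} {i₀ i₁ i : κ} (h : i ≠ i₀) (h' : i ≠ i₁) : dd θ i₀ i₁ i = 1 := by
  rw [dd, if_neg h, if_neg h', one_mul]

theorem prod_dd {θ : F} (hθ : θ ≠ 0) (i₀ i₁ : κ) : ∏ i, dd θ i₀ i₁ i = 1 := by
  unfold dd
  rw [Finset.prod_mul_distrib, Finset.prod_ite_eq', Finset.prod_ite_eq', if_pos (Finset.mem_univ _),
    if_pos (Finset.mem_univ _), mul_inv_cancel₀ hθ]

omit [Fintype κ] in
theorem dd_pow {θ : F} {i₀ i₁ : κ} {N : ℕ} (h : θ ^ N = 1) (i : κ) : dd θ i₀ i₁ i ^ N = 1 := by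
  unfold dd
  rw [mul_pow]
  split_ifs <;> simp [h]

end diag

end Cfsg.Agent.H462.Ppd

private theorem dce_72e9b586508b : _root_.True := by
  try have : _root_.True := by simp only [_root_.Cfsg.Agent.H462.Ppd.dd.eq_1]
  exact _root_.True.intro
end

-- part: H100/Ppd/StructB
section
set_option linter.all false
open scoped Cfsg.Agent.FastGrp

-- part: H100/Ppd/StructA
section
/-!
# TEAM PPD (S5948): the geometric subgroups containing `g` (helper100), part 1

`g ∈ GL_n(q)` of order `m`, `Num q n k m`: `g` preserves no decomposition, no tensor decomposition, no tensor power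
decomposition and normalises no group of symplectic type.
-/

set_option autoImplicit false
set_option linter.unusedSectionVars false

namespace Cfsg.Agent.H100.Ppd

open Cfsg Cfsg.Geo Matrix
open Cfsg.Agent.H915.LD
open Cfsg.Agent.H251.GeoCard

universe u v w

/-- `r` does not divide `q ^ i - 1` for `i < k` -/
theorem Num.not_div {q n k m : ℕ} (h : Num q n k m) {r : ℕ} (hr : r.Prime) (hrm : r ∣ m) {d : ℕ} (hd : d < k) :
    ¬ _root_.Cfsg.Agent.H251.GeoCard.Div r q d := by
  rintro ⟨i, h1, h2, h3⟩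
  have h4 := h.cop i h1 (by omega)
  have h5 := Nat.dvd_gcd hrm h3
  rw [Nat.Coprime] at h4
  rw [h4] at h5
  exact hr.one_lt.ne' (Nat.dvd_one.1 h5)

theorem dvd_card_of_mem {G : Type*} [Group G] {H : Subgroup G} {g : G} (hg : g ∈ H) {r : ℕ}
    (hr : r ∣ orderOf g) : r ∣ Nat.card H := by
  refine hr.trans ?_
  rw [← Subgroup.orderOf_mk g hg]
  exact orderOf_dvd_natCard _

/-! ### orders of permutations -/

theorem exists_of_dvd_lcm {r : ℕ} (hr : r.Prime) (s : Multiset ℕ) (h : r ∣ s.lcm) : ∃ c ∈ s, r ∣ c := by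
  induction s using Multiset.induction_on with
  | empty =>
    rw [Multiset.lcm_zero, Nat.dvd_one] at h
    exact absurd h hr.one_lt.ne'
  | cons a s ih =>
    rw [Multiset.lcm_cons] at h
    have h1 : r ∣ a * s.lcm := h.trans (Nat.lcm_dvd_mul a s.lcm)
    rcases hr.dvd_mul.1 h1 with h2 | h2
    · exact ⟨a, Multiset.mem_cons_self _ _, h2⟩
    · obtain ⟨c, hc, hc'⟩ := ih h2
      exact ⟨c, Multiset.mem_cons_of_mem hc, hc'⟩

/-- two different primes dividing the order of a permutation -/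
theorem add_le_of_dvd_orderOf {n : ℕ} (σ : Equiv.Perm (Fin n)) {r s : ℕ} (hr : r.Prime) (hs : s.Prime) (hrs : r ≠ s)
    (h1 : r ∣ orderOf σ) (h2 : s ∣ orderOf σ) : r + s ≤ n := by
  rw [← Equiv.Perm.lcm_cycleType] at h1 h2
  obtain ⟨c, hc, hrc⟩ := exists_of_dvd_lcm hr _ h1
  obtain ⟨d, hd, hsd⟩ := exists_of_dvd_lcm hs _ h2
  have hsum := σ.sum_cycleType
  have hle : σ.support.card ≤ n := by
    have := Finset.card_le_univ σ.support
    rwa [Fintype.card_fin] at this
  have hc0 : 0 < c := by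
    have := Equiv.Perm.two_le_of_mem_cycleType hc
    omega
  have hd0 : 0 < d := by
    have := Equiv.Perm.two_le_of_mem_cycleType hd
    omega
  by_cases hcd : c = d
  · subst hcd
    have h3 : r * s ∣ c := Nat.Coprime.mul_dvd_of_dvd_of_dvd ((Nat.coprime_primes hr hs).2 hrs) hrc hsd
    have h4 := Nat.le_of_dvd hc0 h3
    have h5 : c ≤ σ.cycleType.sum := Multiset.single_le_sum (fun _ _ => Nat.zero_le _) _ hc
    have h6 : r + s ≤ r * s := by
      have := hr.two_le
      have := hs.two_le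
      nlinarith
    omega
  · have h3 : ({c, d} : Multiset ℕ) ≤ σ.cycleType := by
      rw [Multiset.insert_eq_cons, Multiset.le_iff_count]
      intro a
      have hc1 := Multiset.one_le_count_iff_mem.2 hc
      have hd1 := Multiset.one_le_count_iff_mem.2 hd
      by_cases ha : a = c
      · subst ha
        rw [Multiset.count_cons_self, Multiset.count_singleton, if_neg hcd]
        omega
      · rw [Multiset.count_cons_of_ne ha, Multiset.count_singleton]
        split_ifs with h
        · subst h; exact hd1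
        · exact Nat.zero_le _
    have h4 : ({c, d} : Multiset ℕ).sum ≤ σ.cycleType.sum := by
      obtain ⟨u, hu⟩ := Multiset.le_iff_exists_add.1 h3
      rw [hu, Multiset.sum_add]
      omega
    have h5 : ({c, d} : Multiset ℕ).sum = c + d := by simp
    have h6 := Nat.le_of_dvd hc0 hrc
    have h7 := Nat.le_of_dvd hd0 hsd
    omega

theorem not_sq_dvd_factorial {n r : ℕ} (hr : r.Prime) (hn : n < 2 * r) : ¬ r ^ 2 ∣ n.factorial := by
  intro h
  have hb : Nat.log r n < 2 ∨ 2 ≤ Nat.log r n := by omega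
  have h2 : n < r ^ 2 := by
    have := hr.two_le
    nlinarith
  have h1 := (hr.pow_dvd_factorial_iff (b := 2) (n := n) (r := 2) (Nat.log_lt_of_lt_pow' (by norm_num) h2)).1 h
  have h3 : ∑ i ∈ Finset.Ico 1 2, n / r ^ i = n / r := by simp
  rw [h3] at h1
  have h4 : n / r < 2 := by
    rw [Nat.div_lt_iff_lt_mul hr.pos]
    exact hn
  omega

/-- A permutation of `n` letters of order `m` is impossible. -/
theorem Num.kill_perm {q n k m : ℕ} (h : Num q n k m) (σ : Equiv.Perm (Fin n)) (hm : m ∣ orderOf σ) : False := by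
  obtain ⟨r₀, hr₀, hr₀m⟩ := h.exists_prime
  have h1 : r₀ ≤ n := by
    have h2 : r₀ ∣ Nat.card (Equiv.Perm (Fin n)) := (hr₀m.trans hm).trans (orderOf_dvd_natCard σ)
    rw [Nat.card_eq_fintype_card, Fintype.card_perm, Fintype.card_fin, hr₀.dvd_factorial] at h2
    exact h2
  refine h.kill (r₀ := r₀) (by have := h.nlt; omega) ?_ ?_
  · intro r hr hrm
    by_contra hne
    have h2 := add_le_of_dvd_orderOf σ hr hr₀ hne (hrm.trans hm) (hr₀m.trans hm)
    have h3 := h.le_two_mul hr hrm
    have h4 := h.le_two_mul hr₀ hr₀m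
    omega
  · intro h2
    have h3 : r₀ ^ 2 ∣ Nat.card (Equiv.Perm (Fin n)) := (h2.trans hm).trans (orderOf_dvd_natCard σ)
    rw [Nat.card_eq_fintype_card, Fintype.card_perm, Fintype.card_fin] at h3
    exact not_sq_dvd_factorial hr₀ (by have := h.le_two_mul hr₀ hr₀m; omega) h3

section

variable {n : ℕ} {F : Type u} [Field F] [Finite F] {k m : ℕ}

/-- **(C2)** -/
theorem Num.kill_decomp (h : Num (Nat.card F) n k m) {g : GL (Fin n) F} (hg : orderOf g = m) {t d : ℕ}
    {D : Fin t → Submodule F (Fin n → F)} (hD : IsMDecomposition d D) (hgD : g ∈ decompositionStabilizer D) :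
    False := by
  have := Fintype.ofFinite F
  have htd : t * d = n := by
    have := H922.mul_eq_card hD
    rwa [Fintype.card_fin] at this
  have ht := hD.two_le
  have hd := hD.pos
  obtain ⟨ψ, hψ⟩ := H907.Mx.exists_permHom hD
  -- the kernel of `ψ` has order prime to `m`
  have hker : ∀ r, r.Prime → r ∣ m → d < k → ∀ x : decompositionStabilizer D, ψ x = 1 → x ^ r = 1 → x = 1 := by
    intro r hr hrm hdk x hx hxr
    by_contra hne
    have hs : ¬ r ∣ Nat.card F := h.not_dvd_q hr hrm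
    -- the decomposition is fixed blockwise
    have hfix : ∀ i, (D i).map (Matrix.toLin' ((x : GL (Fin n) F) : Matrix (Fin n) (Fin n) F)) = D i := by
      intro i
      rw [hψ x i, hx]
      rfl
    have hmap : ∀ i, ∀ y ∈ D i, Matrix.toLin' ((x : GL (Fin n) F) : Matrix (Fin n) (Fin n) F) y ∈ D i := by
      intro i y hy
      have := Submodule.mem_map_of_mem (f := Matrix.toLin' ((x : GL (Fin n) F) : Matrix (Fin n) (Fin n) F)) hy
      rwa [hfix i] at this
    have hxr' : (x : GL (Fin n) F) ^ r = 1 := by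
      rw [← Subgroup.coe_pow, hxr]; rfl
    have hres : ∀ i, ∀ y ∈ D i, Matrix.toLin' ((x : GL (Fin n) F) : Matrix (Fin n) (Fin n) F) y = y := by
      intro i
      by_contra hcon
      push Not at hcon
      obtain ⟨y, hy, hne⟩ := hcon
      let f : D i →ₗ[F] D i := (Matrix.toLin' ((x : GL (Fin n) F) : Matrix (Fin n) (Fin n) F)).restrict (hmap i)
      have hf : f ^ r = 1 := by
        have h1 : ∀ (j : ℕ) (y : D i), (((f ^ j) y : D i) : Fin n → F) =
            ((Matrix.toLin' ((x : GL (Fin n) F) : Matrix (Fin n) (Fin n) F)) ^ j) (y : Fin n → F) := by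
          intro j
          induction j with
          | zero => intro y; rfl
          | succ j ih =>
            intro y
            rw [pow_succ, pow_succ, Module.End.mul_apply, Module.End.mul_apply, ih]
            rfl
        apply LinearMap.ext
        intro y
        apply Subtype.ext
        rw [h1, ← Cfsg.Agent.H251.GeoCard.toLin_pow, hxr', Units.val_one, Matrix.toLin'_one]
        rfl
      have hf1 : f ≠ 1 := by
        intro h1
        apply hne
        have h2 := LinearMap.congr_fun h1 ⟨y, hy⟩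
        exact congrArg Subtype.val h2
      have h1 := exists_of_lin hr hs f hf hf1
      rw [hD.finrank_eq i] at h1
      exact h.not_div hr hrm hdk h1
    apply hne
    apply Subtype.ext
    apply Units.ext
    apply Matrix.toLin'.injective
    apply LinearMap.ext
    intro y
    have h1 : (⨆ i, D i) ≤ LinearMap.eqLocus (Matrix.toLin' ((x : GL (Fin n) F) : Matrix (Fin n) (Fin n) F))
        LinearMap.id := by
      rw [iSup_le_iff]
      intro i x hx
      rw [LinearMap.mem_eqLocus]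
      exact hres i x hx
    rw [hD.iSup_eq_top] at h1
    have h2 := h1 (Submodule.mem_top (x := y))
    rw [LinearMap.mem_eqLocus] at h2
    rw [h2]
    simp only [_root_.LinearMap.id_coe, _root_.id_eq, _root_.OneMemClass.coe_one, _root_.Units.val_one, _root_.Matrix.toLin'_one]
  have hdk : d < k := by
    have := h.nlt
    nlinarith only [htd, ht, this]
  -- the order of `ψ g` is `m`
  set G : decompositionStabilizer D := ⟨g, hgD⟩ with hG
  have hGm : orderOf G = m := by rw [← hg, hG, Subgroup.orderOf_mk]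
  have hord : m ∣ orderOf (ψ G) := by
    set o := orderOf (ψ G) with ho
    have ho' : o ∣ m := by rw [ho, ← hGm]; exact orderOf_map_dvd ψ G
    by_contra hcon
    -- a prime dividing `m / o`
    obtain ⟨c, hc⟩ := ho'
    have hc1 : c ≠ 1 := by
      rintro rfl
      apply hcon
      rw [hc, mul_one]
    obtain ⟨r, hr, hrc⟩ := Nat.exists_prime_and_dvd hc1
    obtain ⟨c', rfl⟩ := hrc
    have hm0 : m ≠ 0 := h.m_ne
    have ho0 : 0 < o * c' := by
      apply Nat.pos_of_ne_zero
      intro h0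
      apply hm0
      rw [hc]
      calc o * (r * c') = r * (o * c') := by ring
        _ = 0 := by rw [h0, mul_zero]
    have h1 : ψ (G ^ (o * c')) = 1 := by
      rw [map_pow, pow_mul, ho, pow_orderOf_eq_one, one_pow]
    have h2 : (G ^ (o * c')) ^ r = 1 := by
      rw [← pow_mul]
      have : o * c' * r = m := by rw [hc]; ring
      rw [this, ← hGm, pow_orderOf_eq_one]
    have hrm : r ∣ m := by rw [hc]; exact ⟨o * c', by ring⟩
    have h3 := hker r hr hrm hdk _ h1 h2
    have h4 := orderOf_dvd_of_pow_eq_one h3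
    rw [hGm] at h4
    have h5 := Nat.le_of_dvd ho0 h4
    have h6 : o * c' * r = m := by rw [hc]; ring
    have := hr.two_le
    nlinarith only [hc, ho0, h5, this]
  -- compare `t` with the primes
  by_cases hd1 : d = 1
  · subst hd1
    rw [mul_one] at htd
    subst htd
    exact h.kill_perm (ψ G) hord
  · obtain ⟨r, hr, hrm⟩ := h.exists_prime
    have h2 : r ∣ Nat.card (Equiv.Perm (Fin t)) := (hrm.trans hord).trans (orderOf_dvd_natCard _)
    rw [Nat.card_eq_fintype_card, Fintype.card_perm, Fintype.card_fin, hr.dvd_factorial] at h2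
    have h3 := h.le_two_mul hr hrm
    have h4 : 2 ≤ d := by omega
    nlinarith only [htd, h2, h3, h4]

/-- **(C4)** -/
theorem Num.kill_tensor (h : Num (Nat.card F) n k m) {g : GL (Fin n) F} (hg : orderOf g = m) {n₁ n₂ : ℕ}
    (e : Fin n ≃ Fin n₁ × Fin n₂) (Q : GL (Fin n) F) (h1 : 2 ≤ n₁) (h2 : 2 ≤ n₂)
    (hgD : g ∈ tensorProductSubgroup n₁ n₂ e Q) : False := by
  have hn : n = n₁ * n₂ := by
    have := Fintype.card_congr e
    rwa [Fintype.card_fin, Fintype.card_prod, Fintype.card_fin, Fintype.card_fin] at this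
  have := Fintype.ofFinite F
  obtain ⟨r, hr, hrm⟩ := h.exists_prime
  have h3 := tensor e Q hr (h.not_dvd_q hr hrm) (dvd_card_of_mem hgD (by rwa [hg]))
  refine h.not_div hr hrm ?_ h3
  have := h.nlt
  rw [max_lt_iff]
  constructor <;> nlinarith only [h2, hn, this, h1]

/-- **(C7)** -/
theorem Num.kill_wreath (h : Num (Nat.card F) n k m) {g : GL (Fin n) F} (hg : orderOf g = m) {d t : ℕ}
    (e : Fin n ≃ (Fin t → Fin d)) (Q : GL (Fin n) F) (h1 : 2 ≤ d) (h2 : 2 ≤ t)
    (hgD : g ∈ tensorWreathSubgroup d t e Q) : False := by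
  have hn : n = d ^ t := by
    have := Fintype.card_congr e
    rwa [Fintype.card_fin, Fintype.card_fun, Fintype.card_fin, Fintype.card_fin] at this
  have := Fintype.ofFinite F
  obtain ⟨r, hr, hrm⟩ := h.exists_prime
  rcases wreath e Q hr (h.not_dvd_q hr hrm) (dvd_card_of_mem hgD (by rwa [hg])) with h3 | h3
  · have h4 := h.le_two_mul hr hrm
    have h5 : t < 2 ^ t := Nat.lt_two_pow_self
    have h6 : 2 ^ t ≤ d ^ t := Nat.pow_le_pow_left h1 t
    have h7 : t * 2 ≤ 2 ^ t := by
      obtain ⟨s, rfl⟩ : ∃ s, t = s + 1 := ⟨t - 1, by omega⟩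
      have : s < 2 ^ s := Nat.lt_two_pow_self
      rw [pow_succ]
      omega
    omega
  · refine h.not_div hr hrm ?_ h3
    have := h.nlt
    have h4 : d * d ≤ d ^ t := by
      rw [← pow_two]
      exact Nat.pow_le_pow_right (by omega) h2
    nlinarith only [h1, hn, this, h4]

end

end Cfsg.Agent.H100.Ppd
end

-- part: H100/Ppd/StructB
section
/-!
# TEAM PPD (S5948): the geometric subgroups containing `g` (helper100), part 2

* `Num.dvd_of_field` : if `g` normalises a field of matrices of prime degree `s` then `s ∣ gcd n k`;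
* `Num.kill_sympType` : `g` normalises no group of symplectic type.
-/

set_option autoImplicit false
set_option linter.unusedSectionVars false

namespace Cfsg.Agent.H100.Ppd

open Cfsg Cfsg.Geo Matrix
open Cfsg.Agent.H915.LD
open Cfsg.Agent.H251.GeoCard

universe u v w

section field

variable {ι : Type} [Fintype ι] [DecidableEq ι] {F : Type u} [Field F] [Fintype F]

theorem dvd_card_of_field {r : ℕ} {K : Subalgebra F (Matrix ι ι F)} (hK : IsFieldSubalgebra r K) [Nonempty ι] :
    r ∣ Fintype.card ι := by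
  let _ : Field K := (H912.isField_of_fieldSub hK).toField
  have hfd : Module.Finite F K := inferInstance
  have hfr : Module.Free K (ι → F) := Module.Free.of_divisionRing _ _
  have hst : IsScalarTower F K (ι → F) := Subalgebra.isScalarTower_mid _
  have h1 := Module.finrank_mul_finrank F K (ι → F)
  rw [hK.finrank_eq, Module.finrank_fintype_fun_eq_card] at h1
  exact ⟨_, h1.symm⟩

/-- an element `g` of prime order `s` commuting with the field -/
theorem div_of_commutes [Nonempty ι] {r s : ℕ} (hr : r.Prime) {K : Subalgebra F (Matrix ι ι F)}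
    (hK : IsFieldSubalgebra r K) (hs : s.Prime) (hF : ¬ s ∣ Nat.card F) {g : GL ι F} (hgs : g ^ s = 1) (hgne : g ≠ 1)
    (hcomm' : ∀ x ∈ K, (g : Matrix ι ι F) * x = x * (g : Matrix ι ι F)) :
    _root_.Cfsg.Agent.H251.GeoCard.Div s (Nat.card F ^ r) (Fintype.card ι / r) := by
  classical
  have hfin : Finite (GL ι F) := inferInstance
  have := Fact.mk hs
  let _ : Field K := (H912.isField_of_fieldSub hK).toField
  have hfd : Module.Finite F K := inferInstance
  have hKfin : Finite K := Module.finite_of_finite F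
  have hcomm : ∀ x : K, (g : Matrix ι ι F) * x = x * (g : Matrix ι ι F) := fun x => hcomm' x x.2
  have hfr : Module.Free K (ι → F) := Module.Free.of_divisionRing _ _
  have hst : IsScalarTower F K (ι → F) := Subalgebra.isScalarTower_mid _
  have h1 := Module.finrank_mul_finrank F K (ι → F)
  rw [hK.finrank_eq, Module.finrank_fintype_fun_eq_card] at h1
  have hrank : Module.finrank K (ι → F) = Fintype.card ι / r := by
    rw [← h1, Nat.mul_div_cancel_left _ hr.pos]
  let f : (ι → F) →ₗ[K] (ι → F) :=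
    { toFun := fun v => (g : Matrix ι ι F) *ᵥ v
      map_add' := fun u v => Matrix.mulVec_add _ _ _
      map_smul' := fun x v => by
        change (g : Matrix ι ι F) *ᵥ ((x : Matrix ι ι F) *ᵥ v) =
          (x : Matrix ι ι F) *ᵥ ((g : Matrix ι ι F) *ᵥ v)
        rw [Matrix.mulVec_mulVec, Matrix.mulVec_mulVec, hcomm] }
  have hfk : ∀ (k : ℕ) (v : ι → F), (f ^ k) v = ((g ^ k : GL ι F) : Matrix ι ι F) *ᵥ v := by
    intro k
    induction k with
    | zero => intro v; simp
    | succ k ih =>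
      intro v
      rw [pow_succ, Module.End.mul_apply, ih, pow_succ, Units.val_mul, ← Matrix.mulVec_mulVec]
      rfl
  have hfs : f ^ s = 1 := by
    apply LinearMap.ext
    intro v
    rw [hfk, hgs]
    simp
  have hf1 : f ≠ 1 := by
    intro hf1
    apply hgne
    apply Units.ext
    apply Matrix.toLin'.injective
    apply LinearMap.ext
    intro v
    have h2 := LinearMap.congr_fun hf1 v
    rw [Matrix.toLin'_apply, Units.val_one, Matrix.toLin'_one]
    exact h2
  have hcardK : Nat.card K = Nat.card F ^ r := by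
    have h2 := Module.natCard_eq_pow_finrank (K := F) (V := K)
    rwa [hK.finrank_eq] at h2
  have hKs : ¬ s ∣ Nat.card K := by
    rw [hcardK]
    exact fun h2 => hF (hs.dvd_of_dvd_pow h2)
  have hVfin : Module.Finite K (ι → F) := Module.Finite.of_restrictScalars_finite F K (ι → F)
  have h2 := exists_of_lin hs hKs f hfs hf1
  rwa [hcardK, hrank] at h2

/-- the action on the field has order dividing `r` -/
theorem pow_commutes [Nonempty ι] {r : ℕ} (hr : r.Prime) {K : Subalgebra F (Matrix ι ι F)}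
    (hK : IsFieldSubalgebra r K) {g : GL ι F} (hg : g ∈ subalgebraNormalizer K) :
    ∀ x ∈ K, ((g ^ r : GL ι F) : Matrix ι ι F) * x = x * ((g ^ r : GL ι F) : Matrix ι ι F) := by
  classical
  have hN : H912.NormAlg (subalgebraNormalizer K) K := fun _ hh a ha => (hh a).mp ha
  let _ : Field K := (H912.isField_of_fieldSub hK).toField
  have hfd : Module.Finite F K := inferInstance
  have hKfin : Finite K := Module.finite_of_finite F
  have hgal : IsGalois F K := inferInstance
  set G : subalgebraNormalizer K := ⟨g, hg⟩ with hG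
  let σ : K ≃ₐ[F] K := H912.conjSub hN G
  have hσk : ∀ (k : ℕ) (x : K), (((σ ^ k) x : K) : Matrix ι ι F) =
      ((g ^ k : GL ι F) : Matrix ι ι F) * x * (((g ^ k)⁻¹ : GL ι F) : Matrix ι ι F) := by
    intro k
    induction k with
    | zero => intro x; simp
    | succ k ih =>
      intro x
      rw [pow_succ, AlgEquiv.mul_apply, ih, H912.conjSub_coe, pow_succ, _root_.mul_inv_rev, Units.val_mul,
        Units.val_mul]
      simp only [Matrix.mul_assoc, hG]
  have hσr : σ ^ r = 1 := by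
    have h3 : Nat.card (K ≃ₐ[F] K) = r := by
      rw [IsGalois.card_aut_eq_finrank, hK.finrank_eq]
    rw [← h3]
    exact pow_card_eq_one'
  intro x hx
  have h1 := hσk r ⟨x, hx⟩
  rw [hσr] at h1
  have h2 : x = ((g ^ r : GL ι F) : Matrix ι ι F) * x * (((g ^ r)⁻¹ : GL ι F) : Matrix ι ι F) := h1
  conv_rhs => rw [h2]
  rw [Matrix.mul_assoc, ← Units.val_mul, inv_mul_cancel, Units.val_one, Matrix.mul_one]

end field

section

variable {n : ℕ} {F : Type u} [Field F] [Finite F] {k m : ℕ}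

theorem Num.dvd_of_div {q n k m : ℕ} (h : Num q n k m) {r : ℕ} (hr : r.Prime) (hrm : r ∣ m) {s d : ℕ}
    (hs : s.Prime) (hd : d < k) (hdiv : _root_.Cfsg.Agent.H251.GeoCard.Div r (q ^ s) d) : s ∣ k := by
  obtain ⟨i, h1, h2, h3⟩ := hdiv
  have : Fact r.Prime := ⟨hr⟩
  have h4 : ((q : ZMod r)) ^ (s * i) = 1 := by
    rw [pow_mul]
    have h5 : 1 ≤ (q ^ s) ^ i := Nat.one_le_pow _ _ (Nat.pow_pos (by have := h.one_lt_q; omega))
    have h6 : (((q ^ s) ^ i - 1 : ℕ) : ZMod r) = 0 := (ZMod.natCast_eq_zero_iff _ _).2 h3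
    rw [Nat.cast_sub h5, Nat.cast_pow, Nat.cast_pow, Nat.cast_one, sub_eq_zero] at h6
    exact h6
  rw [h.pow_eq_one_iff hr hrm] at h4
  by_contra hcon
  have h5 : Nat.Coprime k s := ((Nat.Prime.coprime_iff_not_dvd hs).2 hcon).symm
  have h6 := Nat.le_of_dvd (by omega) (h5.dvd_of_dvd_mul_left h4)
  omega

/-- **(C3)** -/
theorem Num.dvd_of_field (h : Num (Nat.card F) n k m) {g : GL (Fin n) F} (hg : orderOf g = m) {s : ℕ}
    (hs : s.Prime) {K : Subalgebra F (Matrix (Fin n) (Fin n) F)} (hK : IsFieldSubalgebra s K)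
    (hgK : g ∈ subalgebraNormalizer K) : s ∣ Nat.gcd n k := by
  have := Fintype.ofFinite F
  have hn : Nonempty (Fin n) := ⟨⟨0, by have := h.ten; omega⟩⟩
  have hsn : s ∣ n := by
    have := dvd_card_of_field hK
    rwa [Fintype.card_fin] at this
  refine Nat.dvd_gcd hsn ?_
  have hn0 : 0 < n := by have := h.ten; omega
  have hdk : n / s < k := by
    have h1 := h.nlt
    have h2 : n / s ≤ n / 2 := Nat.div_le_div_left hs.two_le (by norm_num)
    omega
  by_cases hall : ∀ r, r.Prime → r ∣ m → r = s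
  · -- `m` is a power of `s`
    exfalso
    obtain ⟨r, hr, hrm⟩ := h.exists_prime
    obtain rfl := hall r hr hrm
    -- `s² ∣ m`
    have hrn : r = n := by
      have h1 := h.le_two_mul hr hrm
      obtain ⟨c, hc⟩ := hsn
      have h2 : c < 2 := by
        by_contra hcon
        have : 2 * r ≤ c * r := Nat.mul_le_mul_right r (by omega)
        rw [hc, mul_comm r c] at h1
        omega
      have h3 : c ≠ 0 := by rintro rfl; omega
      have h4 : c = 1 := by omega
      rw [hc, h4, mul_one]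
    have hsq : r ^ 2 ∣ m := by
      by_contra hsq
      exact h.kill (by have := h.nlt; omega) hall hsq
    obtain ⟨c, hc⟩ := hsq
    have hm0 := h.m_ne
    have hc0 : 0 < c := by
      apply Nat.pos_of_ne_zero
      rintro rfl
      exact hm0 (by rw [hc, mul_zero])
    -- the element `g ^ (r c)` of order `r`
    have h1 : (g ^ (r * c)) ^ r = 1 := by
      rw [← pow_mul]
      have : r * c * r = m := by rw [hc]; ring
      rw [this, ← hg, pow_orderOf_eq_one]
    have h2 : g ^ (r * c) ≠ 1 := by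
      intro h2
      have h3 := Nat.le_of_dvd (Nat.mul_pos hr.pos hc0) (orderOf_dvd_of_pow_eq_one h2)
      rw [hg, hc] at h3
      have h4 := hr.two_le
      have h5 : r ^ 2 * c = r * (r * c) := by ring
      rw [h5] at h3
      have h6 : 0 < r * c := Nat.mul_pos hr.pos hc0
      nlinarith only [hc, hc0, h3, h4]
    have h3 : ∀ x ∈ K, ((g ^ (r * c) : GL (Fin n) F) : Matrix (Fin n) (Fin n) F) * x =
        x * ((g ^ (r * c) : GL (Fin n) F) : Matrix (Fin n) (Fin n) F) := by
      intro x hx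
      have h4 : (g ^ c) ∈ subalgebraNormalizer K := pow_mem hgK c
      have h5 := pow_commutes hs hK h4 x hx
      rwa [← pow_mul, mul_comm c r] at h5
    have h4 := div_of_commutes hs hK hr (h.not_dvd_q hr hrm) h1 h2 h3
    rw [Fintype.card_fin] at h4
    have h5 := h.dvd_of_div hr hrm hs hdk h4
    have h6 := h.dvd_sub_one hr hrm
    have h7 := h5.trans h6
    have h8 := Nat.le_of_dvd (by have := hr.two_le; omega) h7
    have := hr.two_le
    omega
  · push Not at hall
    obtain ⟨r, hr, hrm, hrs⟩ := hall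
    have h1 := extension hs hK hr (h.not_dvd_q hr hrm) (dvd_card_of_mem hgK (by rwa [hg]))
    rw [Fintype.card_fin] at h1
    rcases h1 with h1 | h1
    · exact absurd h1 hrs
    · exact h.dvd_of_div hr hrm hs hdk h1

theorem not_sq_dvd_pow_sub {s c r : ℕ} (hs : 2 ≤ s) (hr : r.Prime) (hrs : ¬ r ∣ s) (hlt : s ^ c + 3 ≤ 2 * r) (hc : 1 ≤ c) :
    ¬ r ^ 2 ∣ s ^ (c ^ 2) * ∏ i ∈ Finset.range c, (s ^ (2 * (i + 1)) - 1) := by
  -- all factors except the last one are prime to `r`
  have hsmall : ∀ i, i + 1 < c → ¬ r ∣ s ^ (2 * (i + 1)) - 1 := by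
    intro i hi hd
    have h5 : s ^ (2 * (i + 1)) - 1 = (s ^ (i + 1) + 1) * (s ^ (i + 1) - 1) := by
      rw [mul_comm 2, pow_mul, ← Nat.sq_sub_sq, one_pow]
    rw [h5] at hd
    have h1 : s ^ (i + 1) * 2 ≤ s ^ c := by
      calc s ^ (i + 1) * 2 ≤ s ^ (i + 1) * s := Nat.mul_le_mul_left _ hs
        _ = s ^ (i + 2) := by rw [pow_succ s (i + 1)]
        _ ≤ s ^ c := Nat.pow_le_pow_right (by omega) hi
    have h2 : 1 < s ^ (i + 1) := Nat.one_lt_pow (by omega) (by omega)
    rcases hr.dvd_mul.1 hd with h6 | h6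
    · have := Nat.le_of_dvd (by omega) h6
      omega
    · have := Nat.le_of_dvd (by omega) h6
      omega
  intro hd
  obtain ⟨c', rfl⟩ : ∃ c', c = c' + 1 := ⟨c - 1, by omega⟩
  rw [Finset.prod_range_succ] at hd
  have hcop : Nat.Coprime (r ^ 2) (s ^ ((c' + 1) ^ 2) * ∏ i ∈ Finset.range c', (s ^ (2 * (i + 1)) - 1)) := by
    apply Nat.Coprime.pow_left
    rw [Nat.Prime.coprime_iff_not_dvd hr]
    intro h1
    rcases hr.dvd_mul.1 h1 with h2 | h2
    · exact hrs (hr.dvd_of_dvd_pow h2)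
    · obtain ⟨i, hi, h3⟩ := (Prime.dvd_finset_prod_iff hr.prime _).1 h2
      have := Finset.mem_range.1 hi
      exact hsmall i (by omega) h3
  rw [← mul_assoc] at hd
  have h1 := hcop.dvd_of_dvd_mul_left hd
  have h5 : s ^ (2 * (c' + 1)) - 1 = (s ^ (c' + 1) + 1) * (s ^ (c' + 1) - 1) := by
    rw [mul_comm 2, pow_mul, ← Nat.sq_sub_sq, one_pow]
  rw [h5] at h1
  have h2 : 1 < s ^ (c' + 1) := Nat.one_lt_pow (by omega) (by omega)
  clear hd hcop hsmall h5
  have key : ∀ x : ℕ, 1 < x → x + 1 < 2 * r → r ^ 2 ∣ (x + 1) * (x - 1) → False := by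
    intro x hx hxr hdx
    have hr2 := hr.two_le
    have hrp : 0 < r := hr.pos
    have h3 : r ∣ (x + 1) * (x - 1) := (dvd_pow_self r two_ne_zero).trans hdx
    obtain ⟨y, rfl⟩ : ∃ y, x = y + 1 := ⟨x - 1, by omega⟩
    rw [Nat.add_sub_cancel] at hdx h3
    rcases hr.dvd_mul.1 h3 with h4 | h4
    · obtain ⟨e, he⟩ := h4
      have he2 : e < 2 := by
        by_contra hcon
        have : r * 2 ≤ r * e := Nat.mul_le_mul_left r (by omega)
        omega
      have h0 : e ≠ 0 := by
        rintro rfl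
        omega
      have he1 : e = 1 := by omega
      subst he1
      rw [he, mul_one, pow_two] at hdx
      have h8 := Nat.dvd_of_mul_dvd_mul_left hrp hdx
      have h9 := Nat.le_of_dvd (by omega) h8
      omega
    · obtain ⟨e, he⟩ := h4
      have he2 : e < 2 := by
        by_contra hcon
        have : r * 2 ≤ r * e := Nat.mul_le_mul_left r (by omega)
        omega
      have h0 : e ≠ 0 := by
        rintro rfl
        omega
      have he1 : e = 1 := by omega
      subst he1
      rw [he, mul_one, pow_two] at hdx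
      have h8 := Nat.dvd_of_mul_dvd_mul_right hrp hdx
      have h9 : r ∣ 2 := by
        have h10 : r + 1 + 1 = r + 2 := rfl
        rw [h10] at h8
        exact (Nat.dvd_add_right (dvd_refl r)).1 h8
      have := Nat.le_of_dvd (by omega) h9
      have h11 : r = 2 := by omega
      omega
  exact key _ h2 (by omega) h1

theorem Num.kill_coord (h : Num (Nat.card F) n k m) {g : GL (Fin n) F} (hg : orderOf g = m) {s c : ℕ}
    {R : Subgroup (GL (Fin n) F)} (hs : s.Prime) (hc : 1 ≤ c) (hR : IsPGroup s R) (hn : n = s ^ c)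
    (hsF : s ∣ Nat.card F - 1)
    (habs : ActsAbsolutelyIrreducibly (matrixSet R)) (C : H920.Coord R s c)
    (hgR : g ∈ subgroupNormalizer R) : False := by
  classical
  have hfin : Finite (GL (Fin n) F) := inferInstance
  have hn1 : Nonempty (Fin n) := ⟨⟨0, by have := h.ten; omega⟩⟩
  have hsFact := Fact.mk hs
  have hFt := Fintype.ofFinite F
  -- primes dividing `m` do not divide `s (q - 1)`
  have hcop : ∀ r, r.Prime → r ∣ m → ¬ r ∣ Nat.card F - 1 := by
    intro r hr hrm hd
    exact h.not_div hr hrm (d := 1) (by have := h.six_le; omega) ⟨1, le_rfl, le_rfl, by rwa [pow_one]⟩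
  have hrs : ∀ r, r.Prime → r ∣ m → ¬ r ∣ s := by
    intro r hr hrm hd
    exact hcop r hr hrm (hd.trans hsF)
  obtain ⟨A, hA, hind⟩ := C.exists_ind_of_mem hgR
  -- the order of `A`
  have hAm : A ^ m = 1 := by
    have h1 := hind.pow m
    rw [← hg, pow_orderOf_eq_one] at h1
    rw [← hg]
    exact h1.unique (H920.Coord.Ind.one C)
  set A' : Matrix.symplecticGroup (Fin c) (ZMod s) := ⟨A, hA⟩ with hA'
  have hA'm : A' ^ m = 1 := Subtype.ext hAm
  have hord : m ∣ orderOf A' := by
    set o := orderOf A' with ho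
    have ho' : o ∣ m := orderOf_dvd_of_pow_eq_one hA'm
    by_contra hcon
    obtain ⟨c₁, hc₁⟩ := ho'
    have hc1 : c₁ ≠ 1 := by
      rintro rfl
      apply hcon
      rw [hc₁, mul_one]
    obtain ⟨r, hr, hrc⟩ := Nat.exists_prime_and_dvd hc1
    obtain ⟨c', rfl⟩ := hrc
    have hm0 : m ≠ 0 := h.m_ne
    have hrm : r ∣ m := by rw [hc₁]; exact ⟨o * c', by ring⟩
    have ho0 : 0 < o * c' := by
      apply Nat.pos_of_ne_zero
      intro h0
      apply hm0
      rw [hc₁]
      calc o * (r * c') = r * (o * c') := by ring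
        _ = 0 := by rw [h0, mul_zero]
    have h1 : A ^ (o * c') = 1 := by
      have h2 : A' ^ (o * c') = 1 := by rw [pow_mul, ho, pow_orderOf_eq_one, one_pow]
      exact congrArg Subtype.val h2
    have h2 := hind.pow (o * c')
    rw [h1] at h2
    obtain ⟨x, hx⟩ := C.mem_of_ind_one habs h2
    have h3 : g ^ (o * c') ∈ (R ⊔ scalars (Fin n) F : Subgroup (GL (Fin n) F)) := by
      have h4 := Subgroup.mul_mem_sup x.2 hx
      rwa [mul_inv_cancel_left] at h4
    have hord' : orderOf (g ^ (o * c')) = r := by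
      apply orderOf_eq_of_pow_and_pow_div_prime (n := r) hr.pos
      · rw [← pow_mul]
        have : o * c' * r = m := by rw [hc₁]; ring
        rw [this, ← hg, pow_orderOf_eq_one]
      · intro p hp hpr
        obtain rfl := (Nat.prime_dvd_prime_iff_eq hp hr).1 hpr
        rw [Nat.div_self hp.pos, pow_one]
        intro h4
        have h5 := Nat.le_of_dvd ho0 (orderOf_dvd_of_pow_eq_one h4)
        rw [hg, hc₁] at h5
        have h6 := hp.two_le
        nlinarith only [ho0, h5, h6]
    have h4 : r ∣ Nat.card (R ⊔ scalars (Fin n) F : Subgroup (GL (Fin n) F)) := by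
      rw [← hord', ← Subgroup.orderOf_mk (g ^ (o * c')) h3]
      exact orderOf_dvd_natCard _
    rcases hr.dvd_mul.1 (h4.trans (card_sup_dvd _ _ fun z hz g => scalars_central hz g)) with h5 | h5
    · obtain ⟨a, ha⟩ := (IsPGroup.iff_card).1 hR
      rw [ha] at h5
      exact hrs r hr hrm (hr.dvd_of_dvd_pow h5)
    · exact hcop r hr hrm (h5.trans card_scalars_dvd)
  have hcard : m ∣ s ^ (c ^ 2) * ∏ i ∈ Finset.range c, (s ^ (2 * (i + 1)) - 1) := by
    have h1 := hord.trans (orderOf_dvd_natCard A')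
    rwa [LieClassical.SympCount.card_symplecticGroup, ZMod.card] at h1
  -- the possible primes
  have hprime : ∀ r, r.Prime → r ∣ m → r = n + 1 ∧ k = n ∨ r = n - 1 ∧ k = n - 2 := by
    intro r hr hrm
    have hle := h.le_two_mul hr hrm
    have hten := h.ten
    rcases hr.dvd_mul.1 (hrm.trans hcard) with h3 | h3
    · exact absurd (hr.dvd_of_dvd_pow h3) (hrs r hr hrm)
    · obtain ⟨i, hi, h4⟩ := (Prime.dvd_finset_prod_iff hr.prime _).1 h3
      have hik : i + 1 ≤ c := by
        have := Finset.mem_range.1 hi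
        omega
      have h5 : s ^ (2 * (i + 1)) - 1 = (s ^ (i + 1) + 1) * (s ^ (i + 1) - 1) := by
        rw [mul_comm 2, pow_mul, ← Nat.sq_sub_sq, one_pow]
      have hle' : s ^ (i + 1) ≤ s ^ c := Nat.pow_le_pow_right hs.pos hik
      have h1r : 1 < s ^ (i + 1) := Nat.one_lt_pow (by omega) hs.one_lt
      rw [← hn] at hle'
      have hi' : s ^ (i + 1) = n ∨ s ^ (i + 1) * 2 ≤ n := by
        rcases Nat.lt_or_ge (i + 1) c with h6 | h6
        · right
          calc s ^ (i + 1) * 2 ≤ s ^ (i + 1) * s := Nat.mul_le_mul_left _ hs.two_le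
            _ = s ^ (i + 2) := by rw [pow_succ s (i + 1)]
            _ ≤ s ^ c := Nat.pow_le_pow_right hs.pos h6
            _ = n := hn.symm
        · left
          rw [hn]
          congr 1
          omega
      have hk := h.dvd_sub_one hr hrm
      have hnk := h.nlt
      have hkn := h.kle
      rw [h5] at h4
      rcases hr.dvd_mul.1 h4 with h6 | h6
      · have h7 := Nat.le_of_dvd (by omega) h6
        left
        rcases hi' with h8 | h8
        · rw [h8] at h6
          have h9 : r = n + 1 := by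
            obtain ⟨e, he⟩ := h6
            have h10 : e < 2 := by
              by_contra hcon
              have h8 : 2 * r ≤ e * r := Nat.mul_le_mul_right r (by omega)
              rw [mul_comm r e] at he
              omega
            have h11 : e ≠ 0 := by rintro rfl; omega
            have h12 : e = 1 := by omega
            rw [h12, mul_one] at he
            omega
          refine ⟨h9, ?_⟩
          rw [h9, Nat.add_sub_cancel] at hk
          obtain ⟨e, he⟩ := hk
          have h10 : e < 2 := by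
            by_contra hcon
            have h8 : 2 * k ≤ e * k := Nat.mul_le_mul_right k (by omega)
            rw [mul_comm k e] at he
            omega
          have h11 : e ≠ 0 := by rintro rfl; omega
          have h12 : e = 1 := by omega
          rw [h12, mul_one] at he
          omega
        · omega
      · have h7 := Nat.le_of_dvd (by omega) h6
        right
        rcases hi' with h8 | h8
        · rw [h8] at h6
          have h9 : r = n - 1 := by
            obtain ⟨e, he⟩ := h6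
            have h10 : e < 2 := by
              by_contra hcon
              have h8 : 2 * r ≤ e * r := Nat.mul_le_mul_right r (by omega)
              rw [mul_comm r e] at he
              omega
            have h11 : e ≠ 0 := by rintro rfl; omega
            have h12 : e = 1 := by omega
            rw [h12, mul_one] at he
            omega
          refine ⟨h9, ?_⟩
          have h13 : r - 1 = n - 2 := by (clear * - h9; omega)
          rw [h13] at hk
          obtain ⟨e, he⟩ := hk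
          have h10 : e < 2 := by
            by_contra hcon
            have h8 : 2 * k ≤ e * k := Nat.mul_le_mul_right k (by omega)
            rw [mul_comm k e] at he
            omega
          have h11 : e ≠ 0 := by rintro rfl; omega
          have h12 : e = 1 := by omega
          rw [h12, mul_one] at he
          omega
        · omega
  obtain ⟨r₀, hr₀, hr₀m⟩ := h.exists_prime
  have hten := h.ten
  refine h.kill (r₀ := r₀) ?_ ?_ ?_
  · rcases hprime r₀ hr₀ hr₀m with ⟨h1, h2⟩ | ⟨h1, h2⟩ <;> omega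
  · intro r hr hrm
    rcases hprime r₀ hr₀ hr₀m with ⟨h1, h2⟩ | ⟨h1, h2⟩ <;>
      rcases hprime r hr hrm with ⟨h3, h4⟩ | ⟨h3, h4⟩ <;> (clear * - hn hsFact hA h1 h2 h3 hten h4; omega)
  · intro h1
    refine not_sq_dvd_pow_sub hs.two_le hr₀ (hrs r₀ hr₀ hr₀m) ?_ hc (h1.trans hcard)
    rw [← hn]
    have := h.le_two_mul hr₀ hr₀m
    omega

end

end Cfsg.Agent.H100.Ppd
end
end

section
prune_inst 0xffbdf97bf82fffdfff7e7faed8ddfc3b959fffe6dffd4bffe061ffabdf230a09e52b8d0de018fe1f96621410a87813fb7eeeffe26fdc7ffffddff41ffbee0fe5f6b50031d48c340f3c2ffe03f07f8e7f000000000000000000000000000000000200000000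

-- part: H100/Ppd/StructC
section
set_option linter.all false
open scoped Cfsg.Agent.FastGrp

/-!
# TEAM PPD (S5948): the reduction to a core (helper100)

* `num_of` : the numbers of the statement;
* `Num.kill_sympType` : class C6;
* `struct` : the two structural alternatives or a row `Row k m P` with `P ≤ H`.
-/

set_option autoImplicit false
set_option linter.unusedSectionVars false

namespace Cfsg.Agent.H100.Ppd

open Cfsg Cfsg.Geo Matrix
open Cfsg.Agent.H915.LD
open Cfsg.Agent.H251.GeoCard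

universe u v w

variable {n k m : ℕ} {F : Type u} [Field F] [Finite F]

/-- The numbers of the statement. -/
theorem num_of {g : GL (Fin n) F} (hn : 10 ≤ n) (hk : n < 2 * k) (hg1 : 2 * k + 1 < orderOf g)
    (hg2 : orderOf g ∣ Nat.card F ^ k - 1)
    (hg3 : ∀ i : ℕ, 1 ≤ i → i < k → Nat.Coprime (orderOf g) (Nat.card F ^ i - 1)) :
    Num (Nat.card F) n k (orderOf g) := by
  refine ⟨hn, ?_, hk, hg1, hg2, hg3⟩
  by_contra hkn
  have hkn' : n < k := by omega
  obtain ⟨r, hr, hrm⟩ := Nat.exists_prime_and_dvd (n := orderOf g) (by omega)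
  have hF1 : 1 < Nat.card F := Finite.one_lt_card
  have hrF : ¬ r ∣ Nat.card F := by
    intro h1
    have h2 := hrm.trans hg2
    have h3 : r ∣ Nat.card F ^ k := dvd_pow h1 (by omega)
    have h4 : 1 ≤ Nat.card F ^ k := Nat.one_le_pow _ _ (by omega)
    have h5 : r ∣ 1 := by
      have h6 := (Nat.dvd_sub_iff_right h4 h3).1 h2
      exact h6
    exact hr.one_lt.ne' (Nat.dvd_one.1 h5)
  obtain ⟨i, hi1, hi2, hi3⟩ := div_of_dvd_card_fin hr hrF (hrm.trans (orderOf_dvd_natCard g))
  have h1 := Nat.dvd_gcd hrm hi3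
  rw [hg3 i hi1 (by omega)] at h1
  exact hr.one_lt.ne' (Nat.dvd_one.1 h1)

/-- **Class C6**. -/
theorem Num.kill_sympType (h : Num (Nat.card F) n k m) {g : GL (Fin n) F} (hg : orderOf g = m) {s c : ℕ}
    {R : Subgroup (GL (Fin n) F)} (habs : ActsAbsolutelyIrreducibly (matrixSet R))
    (hst : IsSymplecticTypeGroup s R) (hc : 1 ≤ c) (hn : Fintype.card (Fin n) = s ^ c)
    (hcases : (Odd s ∧ Nat.card (Subgroup.center R) = s ∧ Nat.card R = s ^ (1 + 2 * c)) ∨
       (s = 2 ∧ Nat.card (Subgroup.center R) = 4 ∧ Nat.card R = 2 ^ (2 + 2 * c)) ∨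
       (s = 2 ∧ Nat.card (Subgroup.center R) = 2 ∧ Nat.card R = 2 ^ (1 + 2 * c)))
    (hcomm : ∀ x ∈ R, ∀ y ∈ R, x * y * x⁻¹ * y⁻¹ ∈ scalars (Fin n) F)
    (hgR : g ∈ subgroupNormalizer R) : False := by
  classical
  have hne : Nonempty (Fin n) := ⟨⟨0, by have := h.ten; omega⟩⟩
  have hpow : ∀ x ∈ R, x ^ s ∈ scalars (Fin n) F := by
    rcases hcases with h1 | h1 | ⟨h1, h2, -⟩
    · exact H920.pow_of_type hst habs (Or.inl h1)
    · exact H920.pow_of_type hst habs (Or.inr h1)
    · intro x hx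
      have h3 : (⟨x, hx⟩ : R) ^ s ∈ Subgroup.center R := by
        rw [Subgroup.mem_center_iff]
        intro y
        set X : R := ⟨x, hx⟩ with hX
        have h4 : y * X * y⁻¹ * X⁻¹ ∈ Subgroup.center R :=
          H920.mem_center_of_mem_scalars habs (hcomm y y.2 x hx)
        set z : R := y * X * y⁻¹ * X⁻¹ with hz
        have h5 : z ^ 2 = 1 := by
          have h6 : (⟨z, h4⟩ : Subgroup.center R) ^ Nat.card (Subgroup.center R) = 1 := pow_card_eq_one'
          rw [h2] at h6
          exact congrArg Subtype.val h6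
        have h6 : y * X * y⁻¹ = z * X := by rw [hz]; group
        have h7 : (y * X * y⁻¹) ^ 2 = X ^ 2 := by
          rw [h6, (Subgroup.mem_center_iff.1 h4 X : X * z = z * X).symm, (show Commute X z from
            Subgroup.mem_center_iff.1 h4 X).mul_pow, h5, mul_one]
        rw [conj_pow] at h7
        rw [h1]
        calc y * X ^ 2 = (y * X ^ 2 * y⁻¹) * y := by group
          _ = X ^ 2 * y := by rw [h7]
      exact H920.mem_scalars_of_mem_center habs h3
  obtain ⟨C⟩ := H920.exists_coord habs hcomm hst.prime hc hpow hn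
  have hsF : s ∣ Nat.card F - 1 := by
    have h1 : s ∣ Nat.card (Subgroup.center R) := by
      rcases hcases with h1 | h1 | h1
      · rw [h1.2.1]
      · rw [h1.2.1, h1.1]; decide
      · rw [h1.2.1, h1.1]
    have hsF' : Fact s.Prime := ⟨hst.prime⟩
    obtain ⟨z, hz⟩ := exists_prime_orderOf_dvd_card' s h1
    have h2 : orderOf ((z : R) : GL (Fin n) F) = s := by
      rw [Subgroup.orderOf_coe, Subgroup.orderOf_coe, hz]
    obtain ⟨u, hu⟩ := (Cfsg.Geo.mem_scalars_iff _).1 (H920.mem_scalars_of_mem_center habs z.2)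
    have hpw : ∀ i : ℕ, ((((z : R) : GL (Fin n) F) ^ i : GL (Fin n) F) : Matrix (Fin n) (Fin n) F) =
        ((u ^ i : Fˣ) : F) • (1 : Matrix (Fin n) (Fin n) F) := by
      intro i
      rw [Units.val_pow_eq_pow_val, hu, smul_pow, one_pow, Units.val_pow_eq_pow_val]
    have hone : ∀ i : ℕ, ((z : R) : GL (Fin n) F) ^ i = 1 ↔ u ^ i = 1 := by
      intro i
      constructor
      · intro h3
        have h4 := hpw i
        rw [h3] at h4
        have h5 := congrFun (congrFun h4 hne.some) hne.some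
        rw [Units.val_one, Matrix.smul_apply, Matrix.one_apply_eq, smul_eq_mul, mul_one] at h5
        exact Units.ext h5.symm
      · intro h3
        apply Units.ext
        rw [hpw, h3, Units.val_one, one_smul, Units.val_one]
    have h3 : orderOf u = s := by
      rw [← h2]
      exact orderOf_eq_orderOf_iff.2 fun i => (hone i).symm
    rw [← h3, ← Nat.card_units]
    exact orderOf_dvd_natCard u
  rw [Fintype.card_fin] at hn
  exact h.kill_coord hg hst.prime hc hst.pGroup hn hsF habs C hgR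

/-- **Part (A)** : the two structural alternatives, or a row. -/
theorem struct {g : GL (Fin n) F} (hn : 10 ≤ n) (hk : n < 2 * k) (hg1 : 2 * k + 1 < orderOf g)
    (hg2 : orderOf g ∣ Nat.card F ^ k - 1)
    (hg3 : ∀ i : ℕ, 1 ≤ i → i < k → Nat.Coprime (orderOf g) (Nat.card F ^ i - 1))
    (H : Subgroup (GL (Fin n) F)) (hgH : g ∈ H) (hirr : ActsIrreducibly (matrixSet H)) :
    (∃ (F₀ : Subfield F) (r : ℕ) (P : GL (Fin n) F), r.Prime ∧ Nat.card F = Nat.card F₀ ^ r ∧
      H ≤ subfieldSubgroup F₀ P) ∨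
    (∃ (r : ℕ) (E : Subalgebra F (Matrix (Fin n) (Fin n) F)), r.Prime ∧ r ∣ Nat.gcd n k ∧
      IsFieldSubalgebra r E ∧ H ≤ subalgebraNormalizer E) ∨
    (∃ P : Subgroup (GL (Fin n) F), P ≤ H ∧ Row k (orderOf g) P) := by
  have h := num_of hn hk hg1 hg2 hg3
  have hne : Nonempty (Fin n) := ⟨⟨0, by omega⟩⟩
  rcases H917.lin_split (by rw [Fintype.card_fin]; omega) H with ⟨W, hW0, hW1, hHW⟩ | ⟨t, d, D, hD, hHD⟩ |
      ⟨r, K, hr, hK, hHK⟩ | ⟨n₁, n₂, e, P, h1, h2, hHP⟩ | ⟨-, hspan⟩
  · exfalso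
    rcases hirr W (by
      rintro _ ⟨x, hx, rfl⟩
      rintro _ ⟨v, hv, rfl⟩
      exact (hHW hx v).1 hv) with h1 | h1
    · exact hW0 h1
    · exact hW1 h1
  · exact (h.kill_decomp rfl hD (hHD hgH)).elim
  · exact Or.inr (Or.inl ⟨r, K, hr, h.dvd_of_field rfl hr hK (hHK hgH), hK, hHK⟩)
  · exact (h.kill_tensor rfl e P h1 h2 (hHP hgH)).elim
  rcases H919.C_split H hirr (by rw [Fintype.card_fin]; omega) hspan with
    ⟨N, hNH, hN, hNs, hNc⟩ | ⟨d, t, e, P, E, hW⟩ | ⟨P, hP⟩
  · obtain ⟨s, c, R, hRN, hR, hHR, habs, htype, hchar, hc, hcardR, hcen, hord⟩ :=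
      H920.exists_symplecticType hspan hNH hN hNs hNc
    exact (h.kill_sympType rfl habs htype hc hcardR hord (fun x hx y hy => hNc x (hRN hx) y (hRN hy))
      (hHR hgH)).elim
  · exact (h.kill_wreath rfl e P hW.two_le_m hW.two_le_t (hW.wreath hgH)).elim
  · by_cases hreal : ∃ F₀ : Subfield F, F₀ ≠ ⊤ ∧ RealisableOver F₀ (matrixSet P)
    · obtain ⟨F₀, hF₀, hreal⟩ := hreal
      obtain ⟨F₁, r, B, -, -, hr, hcard, -, hle⟩ :=
        H914.exists_le_subfieldSubgroup hP.normal hP.absIrred hF₀ hreal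
      exact Or.inl ⟨F₁, r, B, hr, hcard, hle⟩
    · push Not at hreal
      exact Or.inr (Or.inr ⟨P, hP.le, core_of_residual (hP.isResidualCore hreal), h, g, rfl,
        fun x hx => hP.normal g hgH x hx⟩)

end Cfsg.Agent.H100.Ppd

private theorem dce_3d1d9288794f : _root_.True := by
  try have : _root_.True := by simp only [_root_.Cfsg.Geo.RealisableOver.congr_simp]
  exact _root_.True.intro
end

-- part: H38/PpdAlt
section
set_option linter.all false
open scoped Cfsg.Agent.FastGrp

/-!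
# TEAM PPD (S5948), PPD-B-alt: alternating groups do not occur (helper38)

`row_alt` : a row `P` with `Soc P` alternating is impossible.
-/

set_option autoImplicit false
set_option linter.unusedSectionVars false

namespace Cfsg.Agent.H38.Ppd

open Cfsg Cfsg.Geo Matrix
open Cfsg.Agent.H915.LD Cfsg.Agent.H100.Ppd

universe u v w

/-- A permutation of `N` points, the order of which has only prime divisors `> N / 2`, has order `≤ N`. -/
theorem orderOf_le_of_primes {N m : ℕ} (σ : Equiv.Perm (Fin N)) (hσ : orderOf σ = m) (hm : m ≠ 1)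
    (hp : ∀ r, r.Prime → r ∣ m → N < 2 * r) : m ≤ N := by
  rw [← Equiv.Perm.lcm_cycleType] at hσ
  have hsum : σ.cycleType.sum ≤ N := by
    have := Equiv.Perm.sum_cycleType_le σ
    rwa [Fintype.card_fin] at this
  obtain ⟨r, hr, hrm⟩ := Nat.exists_prime_and_dvd hm
  -- a cycle of length divisible by `r`
  have hex : ∀ r, r.Prime → ∀ s : Multiset ℕ, r ∣ s.lcm → ∃ l ∈ s, r ∣ l := by
    intro r hr s
    induction s using Multiset.induction_on with
    | empty =>
      intro h
      rw [Multiset.lcm_zero] at h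
      exact absurd (Nat.dvd_one.1 h) hr.one_lt.ne'
    | cons a s ih =>
      intro h
      rw [Multiset.lcm_cons] at h
      rcases (Nat.Prime.dvd_lcm hr).1 h with h1 | h1
      · exact ⟨a, Multiset.mem_cons_self _ _, h1⟩
      · obtain ⟨l, hl, hl'⟩ := ih h1
        exact ⟨l, Multiset.mem_cons_of_mem hl, hl'⟩
  obtain ⟨l, hl, hrl⟩ := hex r hr σ.cycleType (by rw [hσ]; exact hrm)
  have hl2 : 2 ≤ l := Equiv.Perm.two_le_of_mem_cycleType hl
  obtain ⟨s, hs⟩ := Multiset.exists_cons_of_mem hl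
  rw [hs, Multiset.sum_cons] at hsum
  rw [hs, Multiset.lcm_cons] at hσ
  have hlN : r ≤ l := Nat.le_of_dvd (by omega) hrl
  -- the other cycles
  have hone : s.lcm = 1 := by
    by_contra h1
    obtain ⟨t, ht, hts⟩ := Nat.exists_prime_and_dvd h1
    obtain ⟨l', hl', htl⟩ := hex t ht s hts
    have hl'2 : 2 ≤ l' := Equiv.Perm.two_le_of_mem_cycleType (σ := σ) (by rw [hs]; exact Multiset.mem_cons_of_mem hl')
    have h2 : l' ≤ s.sum := Multiset.single_le_sum (fun _ _ => Nat.zero_le _) _ hl'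
    have h3 : t ≤ l' := Nat.le_of_dvd (by omega) htl
    have h4 : t ∣ m := by
      rw [← hσ]
      exact hts.trans (Nat.dvd_lcm_right _ _)
    have h5 := hp t ht h4
    have h6 := hp r hr hrm
    omega
  rw [hone] at hσ
  have h7 : m = l := by
    rw [← hσ]
    exact Nat.lcm_one_right l
  omega

/-- `|Aut(A₆)| = 1440` -/
theorem card_aut_six : Nat.card (MulAut (alternatingGroup (Fin 6))) = 1440 := by
  have : Fact (Nat.Prime 3) := ⟨Nat.prime_three⟩
  have h1 : Nat.card (GaloisField 3 2) = 9 := by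
    rw [GaloisField.card 3 2 (by norm_num)]
    norm_num
  have : Fintype (GaloisField 3 2) := Fintype.ofFinite _
  rw [Nat.card_eq_fintype_card] at h1
  obtain ⟨e⟩ := Cfsg.Agent.S0254.result (F := GaloisField 3 2) h1
  rw [← Nat.card_congr (MulAut.congr e).toEquiv]
  have h2 := Cfsg.Agent.S0813.result (F := GaloisField 3 2) 3 2 (by norm_num) (by rw [h1]; norm_num) 2 (le_refl 2)
    (fun _ => by norm_num)
  have h6 : Nat.card (alternatingGroup (Fin 6)) = 360 := by
    rw [nat_card_alternatingGroup, Nat.card_eq_fintype_card, Fintype.card_fin]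
    decide
  have h5 : Nat.gcd 2 (9 - 1) = 2 := by decide
  rw [h2, if_pos rfl, H934.OutCl.card_pgl (le_refl 2), h1, Nat.card_congr e.toEquiv, h6, h5]

variable {n : ℕ} {F : Type u} [Field F] [Finite F] {k m : ℕ} {P : Subgroup (GL (Fin n) F)}

/-- **PPD-B-alt.** -/
theorem row_alt (h : Row k m P) (hT : IsAlternating (Soc P)) : False := by
  obtain ⟨N, hN5, ⟨e⟩⟩ := hT
  have hm1 : m ≠ 1 := by
    have := h.num.mlt
    omega
  by_cases h6 : N = 6
  · subst h6
    obtain ⟨r, hr, hrm⟩ := h.num.exists_prime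
    have h1 := hrm.trans (h.dvd_card e)
    rw [card_aut_six] at h1
    have h7 := h.num.seven_le hr hrm
    have h2 : r ∣ 2 ^ 5 * 3 ^ 2 * 5 := h1
    rcases (Nat.Prime.dvd_mul hr).1 h2 with h3 | h3
    · rcases (Nat.Prime.dvd_mul hr).1 h3 with h4 | h4
      · have := Nat.le_of_dvd (by norm_num) (hr.dvd_of_dvd_pow h4)
        omega
      · have := Nat.le_of_dvd (by norm_num) (hr.dvd_of_dvd_pow h4)
        omega
    · have := Nat.le_of_dvd (by norm_num) h3
      omega
  · have hle : N ≤ 2 * k + 1 := by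
      by_cases h9 : 9 ≤ N
      · have : Fintype F := Fintype.ofFinite F
        have hp : Fact (ringChar F).Prime := ⟨(CharP.char_is_prime F (ringChar F))⟩
        have h1 := Cfsg.Agent.S2653.result (F := F) (ringChar F) n N P ((scalars (Fin n) F).subgroupOf P) ⟨e⟩ h9
        have h2 := h.num.nlt
        split_ifs at h1 <;> omega
      · have := h.num.six_le
        omega
    have hp : ∀ r, r.Prime → r ∣ m → N < 2 * r := by
      intro r hr hrm
      by_cases h9 : 9 ≤ N
      · have : Fintype F := Fintype.ofFinite F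
        have hp : Fact (ringChar F).Prime := ⟨(CharP.char_is_prime F (ringChar F))⟩
        have h1 := Cfsg.Agent.S2653.result (F := F) (ringChar F) n N P ((scalars (Fin n) F).subgroupOf P) ⟨e⟩ h9
        have h2 := h.num.le_two_mul hr hrm
        split_ifs at h1 <;> omega
      · have := h.num.seven_le hr hrm
        omega
    obtain ⟨x, hx⟩ := h.exists_aut' e
    obtain ⟨σ, hσ⟩ := (Cfsg.Agent.S2119.result N (by omega) h6).2 x
    have h1 : orderOf σ = m := by
      rw [← hx, ← hσ]
      exact (orderOf_injective _ (Cfsg.Agent.S2119.result N (by omega) h6).1 σ).symm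
    have h2 := orderOf_le_of_primes σ h1 hm1 hp
    have h3 := h.num.mlt
    omega

end Cfsg.Agent.H38.Ppd
end

-- part: H100/Ppd/FieldAsm
section
prune_inst 0x20000000000000000000420000000000000000000000000000000000040000000000000000001000000000000008110000000200000000000000000000000000040000000008000000000000000000000000000000000000000000000000000000000
set_option linter.all false
open scoped Cfsg.Agent.FastGrp

-- part: H462/Ppd/FieldOne
section
/-!
# TEAM PPD (S5948): field data of `PSL_N(K)`, `PSp_2m(K)`, `PSU_n(q)` (helper462)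
-/

set_option autoImplicit false

namespace Cfsg.Agent.H462.Ppd

open Cfsg Matrix Cfsg.Agent.LieClassical.FieldTransfer

universe u v

section gen

variable (K : Type u) [Field K] [Fintype K]

theorem exists_gen : ∃ θ : Kˣ, orderOf θ = Fintype.card K - 1 := by
  classical
  obtain ⟨θ, hθ⟩ := IsCyclic.exists_generator (α := Kˣ)
  refine ⟨θ, ?_⟩
  rw [orderOf_eq_card_of_forall_mem_zpowers hθ, Nat.card_eq_fintype_card, Fintype.card_units]

theorem exists_exp (p : ℕ) [Fact p.Prime] [CharP K p] : ∃ f : ℕ, 1 ≤ f ∧ Fintype.card K = p ^ f := by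
  obtain ⟨f, -, hf⟩ := FiniteField.card K p
  exact ⟨f, f.pos, hf⟩

end gen

theorem not_dvd_sub {p f : ℕ} (hp : p.Prime) (hf : 1 ≤ f) : ¬ p ∣ p ^ f - 1 := by
  intro h
  have h1 : p ∣ p ^ f := dvd_pow_self p (by omega)
  have h2 : 1 ≤ p ^ f := Nat.one_le_pow _ _ hp.pos
  have h3 := Nat.dvd_sub h1 h
  rw [Nat.sub_sub_self h2] at h3
  exact hp.one_lt.ne' (Nat.dvd_one.1 h3)

theorem not_dvd_add {p f : ℕ} (hp : p.Prime) (hf : 1 ≤ f) : ¬ p ∣ p ^ f + 1 := by
  intro h
  have h1 : p ∣ p ^ f := dvd_pow_self p (by omega)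
  exact hp.one_lt.ne' (Nat.dvd_one.1 ((Nat.dvd_add_right h1).1 h))

variable {K : Type u} [Field K] [Fintype K]

theorem card_pgl {n : ℕ} (hn : 2 ≤ n) : Nat.card (ProjGenLinGroup (Fin n) K) =
    Nat.gcd n (Fintype.card K - 1) * Nat.card (ProjectiveSpecialLinearGroup (Fin n) K) := by
  classical
  have : NeZero n := ⟨by omega⟩
  have h1 := Cfsg.Agent.S0243.result (F := K) rfl n hn
  have h2 : Nat.card (ProjGenLinGroup (Fin n) K) * (Fintype.card K - 1) = Nat.card (GL (Fin n) K) :=
    Cfsg.Agent.ClassicalGeometry.PSL2Basic.card_PGL_mul (Fin n) K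
  rw [Matrix.card_GL_field, ← h1] at h2
  have h3 : 0 < Fintype.card K - 1 := by
    have := Fintype.one_lt_card (α := K)
    omega
  have h4 : Nat.card (ProjGenLinGroup (Fin n) K) * (Fintype.card K - 1) =
    (Nat.gcd n (Fintype.card K - 1) * Nat.card (ProjectiveSpecialLinearGroup (Fin n) K)) * (Fintype.card K - 1) := by
    rw [h2]; ring
  exact Nat.eq_of_mul_eq_mul_right h3 h4

omit [Fintype K] in
/-- `θ ^ j = θ⁻¹ ^ j` -/
theorem dvd_two_mul_of_eq {θ : Kˣ} {j : ℕ} {r : K} (h1 : (θ : K) ^ j = r) (h2 : (θ : K)⁻¹ ^ j = r) :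
    orderOf θ ∣ 2 * j := by
  apply orderOf_dvd_of_pow_eq_one
  apply Units.ext
  rw [Units.val_pow_eq_pow_val, two_mul, pow_add, Units.val_one]
  nth_rewrite 1 [h1]
  rw [← h2, ← mul_pow, inv_mul_cancel₀ θ.ne_zero, one_pow]

theorem prime_dvd_gcd_two {r m : ℕ} (hr7 : 7 ≤ r) (h : r ∣ Nat.gcd 2 m) : False := by
  have h1 := Nat.le_of_dvd (by norm_num) (h.trans (Nat.gcd_dvd_left 2 m))
  omega

/-- **Field data of `PSL_N(K)`.** -/
theorem fd_psl (p : ℕ) [Fact p.Prime] [CharP K p] {N : ℕ} (hN : 2 ≤ N) (h4 : N = 2 → 4 ≤ Fintype.card K) :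
    FD (ProjectiveSpecialLinearGroup (Fin N) K) p := by
  classical
  have hp : p.Prime := Fact.out
  obtain ⟨f, hf, hK⟩ := exists_exp K p
  obtain ⟨θ, hθ⟩ := exists_gen K
  have hcard := Cfsg.Agent.S0813.result (F := K) p f hf hK N hN (fun h => hK ▸ h4 h)
  rw [card_pgl hN] at hcard
  have h01 : (⟨0, by omega⟩ : Fin N) ≠ ⟨1, by omega⟩ := by
    intro h
    have := congrArg Fin.val h
    simp at this
  set i₀ : Fin N := ⟨0, by omega⟩ with hi₀
  set i₁ : Fin N := ⟨1, by omega⟩ with hi₁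
  have hθN : (θ : K) ^ (Fintype.card K - 1) = 1 := by
    rw [← hθ, ← Units.val_pow_eq_pow_val, pow_orderOf_eq_one, Units.val_one]
  have hfin : Finite (_root_.Matrix.SpecialLinearGroup (Fin N) K) := inferInstance
  let σ : K ≃+* K := frobeniusEquiv K p
  have key := fd_of_matrix (κ := Fin N) (F := K) hp (G := _root_.Matrix.SpecialLinearGroup (Fin N) K)
    (ι := ({ toFun := fun A => (A : Matrix (Fin N) (Fin N) K)
             map_one' := rfl
             map_mul' := fun _ _ => rfl } : _root_.Matrix.SpecialLinearGroup (Fin N) K →* Matrix (Fin N) (Fin N) K))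
    (fun A B h => Subtype.ext h) (slCongr σ) (fun A i l => rfl) (b := f)
    (by rw [Nat.card_eq_fintype_card, hK]) rfl
    (⟨diagonal (dd (θ : K) i₀ i₁), by rw [det_diagonal, prod_dd θ.ne_zero]⟩ : _root_.Matrix.SpecialLinearGroup (Fin N) K)
    (dd (θ : K) i₀ i₁) rfl (N := Fintype.card K - 1) (e := 2) (fun i => dd_pow hθN i)
    (by rw [hK]; exact not_dvd_sub hp hf) (by norm_num) (le_refl 2)
    ?_ ?_ ?_ (c := (if N = 2 then 1 else 2) * Nat.gcd N (Fintype.card K - 1)) ?_ ?_
  · exact key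
  · intro A hA
    obtain ⟨r, -, hr⟩ := Matrix.SpecialLinearGroup.mem_center_iff.1 hA
    exact ⟨r, by rw [← scalar_apply]; exact hr.symm⟩
  · intro j r hjr
    have h1 := hjr i₀
    have h2 := hjr i₁
    rw [dd_left h01] at h1
    rw [dd_right h01] at h2
    rw [← hθ]
    exact dvd_two_mul_of_eq h1 h2
  · intro s hs
    rw [hK] at hs
    exact dvd_of_sub hp.two_le hf hs
  · change Nat.card (MulAut (ProjectiveSpecialLinearGroup (Fin N) K)) =
      Nat.card (ProjectiveSpecialLinearGroup (Fin N) K) * _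
    rw [hcard]; ring
  · intro r hr hr7 hrc
    rcases hr.dvd_mul.1 hrc with h | h
    · exfalso
      split_ifs at h
      · exact hr.one_lt.ne' (Nat.dvd_one.1 h)
      · have := Nat.le_of_dvd (by norm_num) h
        omega
    · exact h.trans (Nat.gcd_dvd_right _ _)

/-- **Field data of `PSp_2m(K)`.** -/
theorem fd_psp (p : ℕ) [Fact p.Prime] [CharP K p] {m : ℕ} (hm : 2 ≤ m) (h3 : m = 2 → 3 ≤ Fintype.card K) :
    FD (PSp m K) p := by
  classical
  have hp : p.Prime := Fact.out
  obtain ⟨f, hf, hK⟩ := exists_exp K p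
  obtain ⟨θ, hθ⟩ := exists_gen K
  have hcard := Cfsg.Agent.S0814.result (F := K) p f hf hK m hm (fun h => hK ▸ h3 h)
  set i₀ : Fin m ⊕ Fin m := Sum.inl ⟨0, by omega⟩ with hi₀
  set i₁ : Fin m ⊕ Fin m := Sum.inr ⟨0, by omega⟩ with hi₁
  have h01 : i₀ ≠ i₁ := by
    rw [hi₀, hi₁]
    exact Sum.inl_ne_inr
  have hθN : (θ : K) ^ (Fintype.card K - 1) = 1 := by
    rw [← hθ, ← Units.val_pow_eq_pow_val, pow_orderOf_eq_one, Units.val_one]
  have hfin : Finite (symplecticGroup (Fin m) K) := Subtype.finite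
  let σ : K ≃+* K := frobeniusEquiv K p
  have hmem : (diagonal (dd (θ : K) i₀ i₁) : Matrix (Fin m ⊕ Fin m) (Fin m ⊕ Fin m) K) ∈
      symplecticGroup (Fin m) K := by
    have h1 : (dd (θ : K) i₀ i₁) = Sum.elim (fun i => if i = ⟨0, by omega⟩ then (θ : K) else 1)
        (fun i => if i = ⟨0, by omega⟩ then (θ : K)⁻¹ else 1) := by
      funext i
      rcases i with i | i
      · simp [dd, hi₀, hi₁]
      · simp [dd, hi₀, hi₁]
    rw [h1, ← fromBlocks_diagonal, SymplecticGroup.fromBlocks_mem_iff]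
    refine ⟨by simp, by simp, ?_⟩
    rw [diagonal_transpose, diagonal_mul_diagonal, Matrix.transpose_zero, Matrix.zero_mul, sub_zero, ← diagonal_one]
    congr 1
    funext i
    split_ifs
    · exact mul_inv_cancel₀ θ.ne_zero
    · exact one_mul 1
  have key := fd_of_matrix (κ := Fin m ⊕ Fin m) (F := K) hp (G := symplecticGroup (Fin m) K)
    (ι := ({ toFun := fun A => A.1
             map_one' := rfl
             map_mul' := fun _ _ => rfl } : symplecticGroup (Fin m) K →* Matrix (Fin m ⊕ Fin m) (Fin m ⊕ Fin m) K))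
    (fun A B h => Subtype.ext h) (spCongr (Fin m) σ) (fun A i l => rfl) (b := f)
    (by rw [Nat.card_eq_fintype_card, hK]) rfl
    (⟨diagonal (dd (θ : K) i₀ i₁), hmem⟩ : symplecticGroup (Fin m) K)
    (dd (θ : K) i₀ i₁) rfl (N := Fintype.card K - 1) (e := 2) (fun i => dd_pow hθN i)
    (by rw [hK]; exact not_dvd_sub hp hf) (by norm_num) (le_refl 2)
    ?_ ?_ ?_ (c := (if m = 2 ∧ p = 2 then 2 else 1) * Nat.gcd 2 (p ^ f - 1)) ?_ ?_
  · exact key
  · intro A hA
    obtain ⟨r, hr⟩ := (Cfsg.Agent.LieClassical.SympCenter.mem_center_iff m A).1 hA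
    exact ⟨r, by rw [← smul_one_eq_diagonal]; exact hr⟩
  · intro j r hjr
    have h1 := hjr i₀
    have h2 := hjr i₁
    rw [dd_left h01] at h1
    rw [dd_right h01] at h2
    rw [← hθ]
    exact dvd_two_mul_of_eq h1 h2
  · intro s hs
    rw [hK] at hs
    exact dvd_of_sub hp.two_le hf hs
  · change Nat.card (MulAut (PSp m K)) = Nat.card (PSp m K) * _
    rw [hcard]; ring
  · intro r hr hr7 hrc
    exfalso
    rcases hr.dvd_mul.1 hrc with h | h
    · split_ifs at h
      · have := Nat.le_of_dvd (by norm_num) h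
        omega
      · exact hr.one_lt.ne' (Nat.dvd_one.1 h)
    · exact prime_dvd_gcd_two hr7 h

/-- **Field data of `PSU_n(q)`.** -/
theorem fd_psu (p : ℕ) [Fact p.Prime] [CharP K p] {n q : ℕ} (hK : Fintype.card K = q ^ 2) (hn : 3 ≤ n)
    (h32 : ¬ (n = 3 ∧ q = 2)) : FD (PSU n K q) p := by
  classical
  have hp : p.Prime := Fact.out
  obtain ⟨b, hb, hKb⟩ := exists_exp K p
  obtain ⟨f, hf, hq, hbf⟩ : ∃ f : ℕ, 1 ≤ f ∧ q = p ^ f ∧ b = 2 * f := by
    have h1 : q ∣ p ^ b := by
      rw [← hKb, hK, pow_two]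
      exact Dvd.intro _ rfl
    obtain ⟨f, -, hf⟩ := (Nat.dvd_prime_pow hp).1 h1
    have h2 : b = 2 * f := by
      rw [hK, hf, ← pow_mul] at hKb
      have := Nat.pow_right_injective hp.two_le hKb
      omega
    exact ⟨f, by omega, hf, h2⟩
  obtain ⟨θ, hθ⟩ := exists_gen K
  have hcard := Cfsg.Agent.S0815.result (F := K) p f hf hq hK n hn h32
  set i₀ : Fin n := ⟨0, by omega⟩ with hi₀
  set i₁ : Fin n := ⟨1, by omega⟩ with hi₁
  set i₂ : Fin n := ⟨2, by omega⟩ with hi₂
  have h01 : i₀ ≠ i₁ := by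
    intro h
    have := congrArg Fin.val h
    simp [hi₀, hi₁] at this
  have h20 : i₂ ≠ i₀ := by
    intro h
    have := congrArg Fin.val h
    simp [hi₀, hi₂] at this
  have h21 : i₂ ≠ i₁ := by
    intro h
    have := congrArg Fin.val h
    simp [hi₁, hi₂] at this
  have hq2 : 2 ≤ q := by
    rw [hq]
    exact hp.two_le.trans (Nat.le_self_pow (by omega) p)
  set η : Kˣ := θ ^ (q - 1) with hη
  have hηo : orderOf η = q + 1 := by
    have h1 : q ^ 2 - 1 = (q - 1) * (q + 1) := by
      have := Nat.sq_sub_sq q 1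
      rw [one_pow] at this
      rw [this, mul_comm]
    rw [hη, orderOf_pow' θ (by omega), hθ, hK, h1, Nat.gcd_eq_right (Dvd.intro _ rfl),
      Nat.mul_div_cancel_left _ (by omega)]
  have hηN : (η : K) ^ (q + 1) = 1 := by
    rw [← hηo, ← Units.val_pow_eq_pow_val, pow_orderOf_eq_one, Units.val_one]
  have hfin : Finite (SU n K q) := inferInstance
  let σ : K ≃+* K := frobeniusEquiv K p
  have key := fd_of_matrix (κ := Fin n) (F := K) hp (G := SU n K q)
    (ι := ({ toFun := fun A => ((A : _root_.Matrix.SpecialLinearGroup (Fin n) K) : Matrix (Fin n) (Fin n) K)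
             map_one' := rfl
             map_mul' := fun _ _ => rfl } : SU n K q →* Matrix (Fin n) (Fin n) K))
    (fun A B h => Subtype.ext (Subtype.ext h)) (suCongr n q σ) (fun A i l => rfl) (b := b)
    (by rw [Nat.card_eq_fintype_card, hKb]) hbf
    (Cfsg.Agent.LieClassical.SUBasic.suDiag q (dd (η : K) i₀ i₁) (prod_dd η.ne_zero i₀ i₁) (fun i => dd_pow hηN i))
    (dd (η : K) i₀ i₁) rfl (N := q + 1) (e := 1) (fun i => dd_pow hηN i)
    (by rw [hq]; exact not_dvd_add hp hf) (le_refl 1) (by norm_num)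
    ?_ ?_ ?_ (c := Nat.gcd n (q + 1)) ?_ ?_
  · exact key
  · intro A hA
    obtain ⟨r, h1, h2, rfl⟩ := (Cfsg.Agent.LieClassical.SUBasic.mem_center_SU_iff hK hn A).1 hA
    exact ⟨r, rfl⟩
  · intro j r hjr
    have h1 := hjr i₀
    have h2 := hjr i₂
    rw [dd_left h01] at h1
    rw [dd_other h20 h21, one_pow] at h2
    rw [← h2] at h1
    rw [one_mul, ← hηo]
    apply orderOf_dvd_of_pow_eq_one
    apply Units.ext
    rw [Units.val_pow_eq_pow_val, h1, Units.val_one]
  · intro s hs
    rw [one_mul, hq] at hs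
    exact dvd_of_add hp.two_le hf hs
  · change Nat.card (MulAut (PSU n K q)) = Nat.card (PSU n K q) * _
    rw [hcard]; ring
  · intro r hr hr7 hrc
    exact hrc.trans (Nat.gcd_dvd_right _ _)

end Cfsg.Agent.H462.Ppd
end

-- part: H462/Ppd/LinOrb
section
/-!
# TEAM PPD (S5948): an element permuting the eigenvalues of another one (helper462)

`le_finrank` : over an algebraically closed field, `h ^ (r ^ a) = 1`, `X h = z • h X ^ t`, `X` semisimple of order prime
to the characteristic, and `h ^ (r ^ (a - 1))` does not commute with `X`: then `r ^ a ≤ dim V`.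
-/

set_option autoImplicit false

namespace Cfsg.Agent.H462.Ppd

open Module

universe u v

section

variable {K : Type u} [Field K] {V : Type v} [AddCommGroup V] [Module K V]

theorem pow_apply_eigen {X : Module.End K V} {l : K} {v : V} (hv : X v = l • v) (t : ℕ) :
    (X ^ t) v = l ^ t • v := by
  induction t with
  | zero => simp
  | succ t ih => rw [pow_succ, Module.End.mul_apply, hv, map_smul, ih, smul_smul, pow_succ, mul_comm]

/-- `h` maps the eigenspace of `l` to the one of `z l ^ t` -/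
theorem step {X h : Module.End K V} {z : K} {t : ℕ} (hX : X * h = z • (h * X ^ t)) {l : K} {v : V}
    (hv : X v = l • v) : X (h v) = (z * l ^ t) • h v := by
  have h1 : X (h v) = (X * h) v := rfl
  rw [h1, hX, LinearMap.smul_apply, Module.End.mul_apply, pow_apply_eigen hv, map_smul, smul_smul]

theorem step_pow {X h : Module.End K V} {z : K} {t : ℕ} (hX : X * h = z • (h * X ^ t)) {l : K} {v : V}
    (hv : X v = l • v) (j : ℕ) : X ((h ^ j) v) = ((fun y : K => z * y ^ t)^[j] l) • (h ^ j) v := by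
  induction j with
  | zero => simpa using hv
  | succ j ih =>
    rw [Function.iterate_succ_apply', pow_succ', Module.End.mul_apply]
    exact step hX ih

theorem le_finrank [IsAlgClosed K] [FiniteDimensional K V] {X h : Module.End K V} {z : K} {t : ℕ}
    (hX : X * h = z • (h * X ^ t)) {r a : ℕ} (hr : r.Prime) (hh : h ^ (r ^ a) = 1) {N : ℕ} (hN : (N : K) ≠ 0)
    (hXN : X ^ N = 1) (hne : X * h ^ (r ^ (a - 1)) ≠ h ^ (r ^ (a - 1)) * X) : r ^ a ≤ finrank K V := by
  classical
  set f : K → K := fun y : K => z * y ^ t with hf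
  -- eigenvalues are periodic
  have hinj : ∀ (j : ℕ) (v : V), v ≠ 0 → (h ^ j) v ≠ 0 := by
    intro j v hv h0
    apply hv
    have h1 : (h ^ (r ^ a * j - j)) ((h ^ j) v) = v := by
      rw [← Module.End.mul_apply, ← pow_add]
      have h2 : r ^ a * j - j + j = r ^ a * j := by
        have : j ≤ r ^ a * j := Nat.le_mul_of_pos_left _ (pow_pos hr.pos _)
        omega
      rw [h2, pow_mul, hh, one_pow, Module.End.one_apply]
    rw [← h1, h0, map_zero]
  have hper : ∀ (l : K) (v : V), v ≠ 0 → X v = l • v → Function.IsPeriodicPt f (r ^ a) l := by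
    intro l v hv hXv
    have h1 := step_pow hX hXv (r ^ a)
    rw [hh, Module.End.one_apply, hXv] at h1
    have h2 : (l - f^[r ^ a] l) • v = 0 := by rw [sub_smul, h1, sub_self]
    exact (sub_eq_zero.1 ((smul_eq_zero.1 h2).resolve_right hv)).symm
  by_contra hlt
  apply hne
  -- every eigenvalue has period dividing `r ^ (a - 1)`
  have hsmall : ∀ (l : K) (v : V), v ≠ 0 → X v = l • v → f^[r ^ (a - 1)] l = l := by
    intro l v hv hXv
    have h1 := (hper l v hv hXv).minimalPeriod_dvd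
    obtain ⟨i, hi, h2⟩ := (Nat.dvd_prime_pow hr).1 h1
    by_cases h3 : i = a
    · exfalso
      apply hlt
      have h4 : LinearIndependent K (fun j : Fin (r ^ a) => (h ^ (j : ℕ)) v) := by
        apply Module.End.eigenvectors_linearIndependent' X (fun j : Fin (r ^ a) => f^[(j : ℕ)] l)
        · intro j₁ j₂ h5
          apply Fin.ext
          have h6 := Function.iterate_injOn_Iio_minimalPeriod (f := f) (x := l)
          rw [h2, h3] at h6
          exact h6 j₁.2 j₂.2 h5
        · intro j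
          exact ⟨Module.End.mem_eigenspace_iff.2 (step_pow hX hXv j), hinj j v hv⟩
      have h5 := h4.fintype_card_le_finrank
      rwa [Fintype.card_fin] at h5
    · have h4 : i ≤ a - 1 := by omega
      have h5 : Function.IsPeriodicPt f (Function.minimalPeriod f l) l := Function.isPeriodicPt_minimalPeriod f l
      rw [h2] at h5
      exact h5.trans_dvd (pow_dvd_pow r h4)
  have htop : ∀ v : V, (X * h ^ (r ^ (a - 1))) v = (h ^ (r ^ (a - 1)) * X) v := by
    intro v
    have h1 : v ∈ ⨆ μ, X.maxGenEigenspace μ := by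
      rw [Module.End.iSup_maxGenEigenspace_eq_top]; trivial
    induction h1 using Submodule.iSup_induction' with
    | mem μ v hv =>
      rw [H912.Bd.maxGen_eq hN hXN, Module.End.mem_eigenspace_iff] at hv
      by_cases hv0 : v = 0
      · rw [hv0, map_zero, map_zero]
      · have h2 := step_pow hX hv (r ^ (a - 1))
        change X ((h ^ r ^ (a - 1)) v) = (f^[r ^ (a - 1)] μ) • _ at h2
        rw [hsmall μ v hv0 hv] at h2
        rw [Module.End.mul_apply, Module.End.mul_apply, h2, hv, map_smul]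
    | zero => rw [map_zero, map_zero]
    | add v w _ _ h2 h3 => rw [map_add, map_add, h2, h3]
  exact LinearMap.ext htop

end

end Cfsg.Agent.H462.Ppd
end

-- part: H462/Ppd/GoodField
section
/-!
# TEAM PPD (S5948): the good prime lemma (helper462)

`Row.good_of_field` : if the primes of `|Out T|` not dividing `|T|` come from a field automorphism `φ` with
`φ x = x ^ p`, then some prime `r ∣ m` divides `|T|`.
-/

set_option autoImplicit false
set_option linter.unusedSectionVars false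

namespace Cfsg.Agent.H462.Ppd

open Cfsg Cfsg.Geo Matrix Cfsg.Agent.H100.Ppd
open Cfsg.Agent.H915.LD

universe u v w

/-- an `r`-element of `G` is conjugate into a subgroup of index prime to `r` -/
theorem exists_conj_mem {G : Type u} [Group G] [Finite G] (H : Subgroup G) {r : ℕ} (hr : r.Prime)
    (hH : ¬ r ∣ H.index) (g : G) {a : ℕ} (hg : orderOf g = r ^ a) : ∃ y : G, y⁻¹ * g * y ∈ H := by
  have : Fact r.Prime := ⟨hr⟩
  have h1 : IsPGroup r (Subgroup.zpowers g) := by
    rw [IsPGroup.iff_card]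
    exact ⟨a, by rw [Nat.card_zpowers, hg]⟩
  obtain ⟨y, hy⟩ := h1.nonempty_fixed_point_of_prime_not_dvd_card (G ⧸ H) hH
  obtain ⟨y, rfl⟩ := QuotientGroup.mk_surjective y
  refine ⟨y, ?_⟩
  have h2 := hy ⟨g, Subgroup.mem_zpowers g⟩
  have h3 : ((g * y : G) : G ⧸ H) = (y : G ⧸ H) := h2
  rw [eq_comm, QuotientGroup.eq] at h3
  rwa [mul_assoc]

section

variable {T : Type v} [Group T]

theorem field_pow {φ : MulAut T} {x : T} {p : ℕ} (hx : φ x = x ^ p) (s : ℕ) : (φ ^ s) x = x ^ p ^ s := by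
  induction s with
  | zero => simp
  | succ s ih => rw [pow_succ, MulAut.mul_apply, hx, map_pow, ih, ← pow_mul, pow_succ]

/-- `x' = y x` on which `α` acts as a power of the field automorphism `φ` -/
theorem exists_frame [Finite T] {φ : MulAut T} {x : T} {p b c : ℕ} (hcard : Nat.card (MulAut T) = Nat.card T * (c * b))
    (hφ : orderOf φ = b) (hx : φ x = x ^ p) (hfix : ∀ s, x ^ p ^ s = x → b ∣ s) {r a : ℕ} (hr : r.Prime)
    (hrT : ¬ r ∣ Nat.card T) (hrc : ¬ r ∣ c) (α : MulAut T) (hα : orderOf α = r ^ a) :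
    ∃ (x' : T) (s : ℕ), orderOf x' = orderOf x ∧ α x' = x' ^ p ^ s ∧ ∀ j : ℕ, (α ^ j) x' = x' → α ^ j = 1 := by
  have hidx : ¬ r ∣ (Subgroup.zpowers φ).index := by
    have h1 := (Subgroup.zpowers φ).card_mul_index
    rw [Nat.card_zpowers, hφ, hcard] at h1
    have hb : 0 < b := by rw [← hφ]; exact orderOf_pos φ
    have h2 : (Subgroup.zpowers φ).index = Nat.card T * c := by
      apply Nat.eq_of_mul_eq_mul_left hb
      rw [h1]; ring
    rw [h2]
    intro h3
    rcases hr.dvd_mul.1 h3 with h3 | h3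
    · exact hrT h3
    · exact hrc h3
  obtain ⟨y, hy⟩ := exists_conj_mem (Subgroup.zpowers φ) hr hidx α hα
  rw [← mem_powers_iff_mem_zpowers] at hy
  obtain ⟨s, hs⟩ := hy
  have hs : φ ^ s = y⁻¹ * α * y := hs
  have hconj : ∀ j : ℕ, y⁻¹ * α ^ j * y = φ ^ (s * j) := by
    intro j
    rw [pow_mul, hs]
    have := conj_pow (i := j) (a := y⁻¹) (b := α)
    rw [inv_inv] at this
    exact this.symm
  have hact : ∀ j : ℕ, (α ^ j) (y x) = y ((φ ^ (s * j)) x) := by
    intro j
    rw [← hconj j, MulAut.mul_apply, MulAut.mul_apply, MulAut.apply_inv_self]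
  refine ⟨y x, s, ?_, ?_, ?_⟩
  · exact orderOf_injective y.toMonoidHom y.injective x
  · have h1 := hact 1
    rw [pow_one, mul_one, field_pow hx, map_pow] at h1
    exact h1
  · intro j hj
    rw [hact j] at hj
    have h1 := y.injective hj
    rw [field_pow hx] at h1
    have h2 := hfix _ h1
    rw [← hφ] at h2
    have h3 := hconj j
    rw [orderOf_dvd_iff_pow_eq_one.1 h2] at h3
    have h4 : α ^ j = y * 1 * y⁻¹ := by rw [← h3]; group
    rw [h4]; group

end

variable {n : ℕ} {F : Type u} [Field F] [Finite F] {k m : ℕ} {P : Subgroup (GL (Fin n) F)}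

theorem conjSoc_order (h : Row k m P) {g : Subgroup.normalizer (P : Set (GL (Fin n) F))} (hg : (g : GL (Fin n) F) ^ m = 1)
    (hc : conjSoc h.core.absIrred g = 1) : g = 1 := by
  apply Subtype.ext
  exact h.eq_one_of_scalar (scalar_of_conjSoc h.core hc) hg

/-- lifts of elements of order prime to `p` have order prime to `p` -/
theorem exists_lift (P : Subgroup (GL (Fin n) F)) (x : Soc P) {p : ℕ} [Fact p.Prime] [CharP F p]
    (hx : ¬ p ∣ orderOf x) : ∃ (X : P) (N : ℕ), toSoc P X = x ∧ ¬ p ∣ N ∧ X ^ N = 1 := by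
  obtain ⟨X, rfl⟩ := toSoc_surjective P x
  refine ⟨X, orderOf (toSoc P X) * (Nat.card F - 1), rfl, ?_, ?_⟩
  · intro h1
    have hp : p.Prime := Fact.out
    rcases hp.dvd_mul.1 h1 with h1 | h1
    · exact hx h1
    · have h2 : p ∣ Nat.card F := by
        have : Fintype F := Fintype.ofFinite F
        rw [Nat.card_eq_fintype_card]
        obtain ⟨j, -, hj⟩ := FiniteField.card F p
        rw [hj]
        exact dvd_pow_self _ j.ne_zero
      have h3 : 1 < Nat.card F := Finite.one_lt_card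
      have h4 : p ∣ 1 := by
        have := Nat.dvd_sub h2 h1
        rwa [Nat.sub_sub_self h3.le] at this
      exact hp.one_lt.ne' (Nat.dvd_one.1 h4)
  · have h1 : X ^ orderOf (toSoc P X) ∈ (toSoc P).ker := by
      rw [MonoidHom.mem_ker, map_pow, pow_orderOf_eq_one]
    rw [ker_toSoc, Subgroup.mem_subgroupOf, mem_scalars_iff] at h1
    obtain ⟨c, hc⟩ := h1
    have hcard : (c : F) ^ (Nat.card F - 1) = 1 := by
      have : Fintype F := Fintype.ofFinite F
      rw [Nat.card_eq_fintype_card]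
      exact FiniteField.pow_card_sub_one_eq_one _ c.ne_zero
    rw [pow_mul]
    apply Subtype.ext
    apply Units.ext
    rw [Subgroup.coe_pow, Units.val_pow_eq_pow_val, hc, smul_pow, hcard, one_pow, one_smul]
    rfl

/-- transfer to an algebraic closure -/
theorem pow_le_degree {g X : GL (Fin n) F} {c : Fˣ} {t : ℕ}
    (hgX : ((g * X * g⁻¹ : GL (Fin n) F) : Matrix (Fin n) (Fin n) F) = (c : F) • (X : Matrix (Fin n) (Fin n) F) ^ t)
    {r a : ℕ} (hr : r.Prime) (hg : g ^ (r ^ a) = 1) {N : ℕ} (hN : (N : F) ≠ 0) (hXN : X ^ N = 1)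
    (hne : X * g ^ (r ^ (a - 1)) ≠ g ^ (r ^ (a - 1)) * X) : r ^ a ≤ n := by
  classical
  let K := AlgebraicClosure F
  let i : F →+* K := algebraMap F K
  have hi : Function.Injective i := i.injective
  let M : Matrix (Fin n) (Fin n) F →+* Module.End K (Fin n → K) :=
    ((Matrix.toLinAlgEquiv' (R := K) (n := Fin n)).toRingEquiv.toRingHom).comp i.mapMatrix
  have hM : Function.Injective M := by
    intro A B hAB
    have h1 := (Matrix.toLinAlgEquiv' (R := K) (n := Fin n)).injective hAB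
    ext j l
    exact hi (congrFun (congrFun h1 j) l)
  have hsm : ∀ (c : F) (A : Matrix (Fin n) (Fin n) F), M (c • A) = i c • M A := by
    intro c A
    have h1 : i.mapMatrix (c • A) = i c • i.mapMatrix A := by
      ext j l
      simp only [Matrix.smul_apply, RingHom.mapMatrix_apply, _root_.Matrix.map_apply, _root_.smul_eq_mul, _root_.map_mul]
    change (Matrix.toLinAlgEquiv' (R := K) (n := Fin n)) (i.mapMatrix (c • A)) = _
    rw [h1, map_smul]
    rfl
  have key := le_finrank (K := K) (V := Fin n → K) (X := M X) (h := M (g⁻¹ : GL (Fin n) F)) (z := i c) (t := t)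
    ?_ hr (a := a) ?_ (N := N) ?_ ?_ ?_
  · rwa [Module.finrank_pi, Fintype.card_fin] at key
  · rw [← map_pow, ← map_mul, ← map_mul, ← hsm]
    congr 1
    have h1 : (X : Matrix (Fin n) (Fin n) F) * (g⁻¹ : GL (Fin n) F) =
        (g⁻¹ : GL (Fin n) F) * ((g * X * g⁻¹ : GL (Fin n) F) : Matrix (Fin n) (Fin n) F) := by
      rw [← Units.val_mul, ← Units.val_mul]
      congr 1
      group
    rw [h1, hgX, Matrix.mul_smul]
  · rw [← map_pow, ← Units.val_pow_eq_pow_val, inv_pow, hg, inv_one, Units.val_one, map_one]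
  · have h1 : ((N : ℕ) : K) = i (N : F) := by rw [map_natCast]
    rw [h1]
    intro h0
    exact hN (hi (by rw [h0, map_zero]))
  · rw [← map_pow, ← Units.val_pow_eq_pow_val, hXN, Units.val_one, map_one]
  · rw [← map_pow, ← map_mul, ← map_mul, ← Units.val_pow_eq_pow_val, ← Units.val_mul, ← Units.val_mul]
    intro h1
    have h2 := Units.ext (hM h1)
    apply hne
    have h3 : Commute X ((g ^ (r ^ (a - 1)))⁻¹) := by
      rw [← inv_pow]; exact h2
    have h4 : Commute X (g ^ (r ^ (a - 1))) := by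
      have := h3.inv_right
      rwa [inv_inv] at this
    exact h4

/-- **The good prime lemma.** -/
theorem good_of_field (h : Row k m P) {T : Type v} [Group T] (e : Soc P ≃* T) (p : ℕ) [Fact p.Prime]
    [CharP F p] {b c : ℕ} (φ : MulAut T) (x : T) (hcard : Nat.card (MulAut T) = Nat.card T * (c * b))
    (hc : ∀ r, r.Prime → 7 ≤ r → r ∣ c → r ∣ Nat.card T) (hφ : orderOf φ = b) (hx : φ x = x ^ p)
    (hxp : ¬ p ∣ orderOf x) (hfix : ∀ s, x ^ p ^ s = x → b ∣ s) : ∃ r, r.Prime ∧ r ∣ m ∧ r ∣ Nat.card T := by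
  by_contra hcon
  push Not at hcon
  have hfinT : Finite T := Finite.of_equiv _ e.toEquiv
  have hp : p.Prime := Fact.out
  have hm0 := h.num.m_ne
  -- the main claim
  have key : ∀ r : ℕ, r.Prime → r ∣ m → r ^ (m.factorization r) ≤ n := by
    intro r hr hrm
    set a := m.factorization r with ha
    have ha0 : 0 < a := hr.factorization_pos_of_dvd hm0 hrm
    have ham : r ^ a ∣ m := Nat.ordProj_dvd m r
    obtain ⟨g, hgm, hg⟩ := h.elt
    have hgN := mem_normalizer hg
    set g' : GL (Fin n) F := g ^ (m / r ^ a) with hg'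
    have hg'N : g' ∈ Subgroup.normalizer (P : Set (GL (Fin n) F)) := Subgroup.pow_mem _ hgN _
    have hg'o : orderOf g' = r ^ a := by
      rw [hg', orderOf_pow' g (Nat.div_pos (Nat.le_of_dvd (Nat.pos_of_ne_zero hm0) ham) (pow_pos hr.pos _)).ne', hgm,
        Nat.gcd_eq_right (Nat.div_dvd_of_dvd ham), Nat.div_div_self ham hm0]
    set G : Subgroup.normalizer (P : Set (GL (Fin n) F)) := ⟨g', hg'N⟩ with hG
    have hGo : orderOf G = r ^ a := by
      rw [← hg'o]
      exact (Subgroup.orderOf_coe G).symm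
    set α₀ : MulAut (Soc P) := conjSoc h.core.absIrred G with hα₀
    have hker : ∀ j : ℕ, α₀ ^ j = 1 → G ^ j = 1 := by
      intro j hj
      apply conjSoc_order h
      · rw [Subgroup.coe_pow, hG]
        simp only
        have h0 : g ^ m = 1 := by rw [← hgm, pow_orderOf_eq_one]
        rw [hg', pow_right_comm _ j m, pow_right_comm _ (m / r ^ a) m, h0, one_pow, one_pow]
      · rw [map_pow]; exact hj
    have hα₀o : orderOf α₀ = r ^ a := by
      rw [← hGo]
      apply Nat.dvd_antisymm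
      · exact orderOf_map_dvd _ G
      · apply orderOf_dvd_of_pow_eq_one
        exact hker _ (pow_orderOf_eq_one _)
    set α : MulAut T := MulAut.congr e α₀ with hα
    have hαo : orderOf α = r ^ a := by
      rw [← hα₀o]
      exact orderOf_injective (MulAut.congr e).toMonoidHom (MulAut.congr e).injective α₀
    have hrT : ¬ r ∣ Nat.card T := hcon r hr hrm
    have hrc : ¬ r ∣ c := fun h1 => hrT (hc r hr (h.num.seven_le hr hrm) h1)
    obtain ⟨x', s, hx'o, hx's, hx'f⟩ := exists_frame hcard hφ hx hfix hr hrT hrc α hαo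
    -- back to the socle
    have hαap : ∀ (j : ℕ) (y : T), (α ^ j) y = e ((α₀ ^ j) (e.symm y)) := by
      intro j y
      rw [hα, ← map_pow]
      rfl
    set y := e.symm x' with hy
    have hyo : ¬ p ∣ orderOf y := by
      have h1 : orderOf y = orderOf x' := orderOf_injective e.symm.toMonoidHom e.symm.injective x'
      rw [h1, hx'o]; exact hxp
    have hys : α₀ y = y ^ p ^ s := by
      have h1 := hαap 1 x'
      rw [pow_one, hx's, pow_one] at h1
      have h2 := congrArg e.symm h1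
      rw [MulEquiv.symm_apply_apply, map_pow] at h2
      exact h2.symm
    have hyf : (α₀ ^ (r ^ (a - 1))) y ≠ y := by
      intro h1
      have h2 : (α ^ (r ^ (a - 1))) x' = x' := by
        rw [hαap, ← hy, h1, hy, MulEquiv.apply_symm_apply]
      have h3 := hx'f _ h2
      have h4 := orderOf_dvd_of_pow_eq_one h3
      rw [hαo, Nat.pow_dvd_pow_iff_le_right hr.one_lt] at h4
      omega
    obtain ⟨X, N, hXy, hpN, hXN⟩ := exists_lift P y (p := p) hyo
    -- `g' X g'⁻¹ = c X ^ (p ^ s)`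
    have h1 : toSoc P (X ^ p ^ s) = toSoc P ⟨(G : GL (Fin n) F) * X * (G : GL (Fin n) F)⁻¹,
        (Subgroup.mem_normalizer_iff.1 G.2 X).1 X.2⟩ := by
      rw [← conjSoc_mk h.core.absIrred G X, map_pow, hXy, ← hα₀, hys]
    obtain ⟨z, hz⟩ := exists_of_toSoc_eq h1
    have h2 : (((X ^ p ^ s : P) : GL (Fin n) F) : Matrix (Fin n) (Fin n) F) =
        ((X : GL (Fin n) F) : Matrix (Fin n) (Fin n) F) ^ p ^ s := by
      rw [Subgroup.coe_pow, Units.val_pow_eq_pow_val]
    rw [h2] at hz
    refine pow_le_degree (g := g') (X := X) (c := z) (t := p ^ s) hz hr ?_ (N := N) ?_ ?_ ?_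
    · rw [← hg'o, pow_orderOf_eq_one]
    · intro h0
      rw [CharP.cast_eq_zero_iff F p] at h0
      exact hpN h0
    · have := congrArg Subtype.val hXN
      rwa [Subgroup.coe_pow] at this
    · intro h3
      apply hyf
      rw [hα₀, ← map_pow, ← hXy, conjSoc_mk]
      congr 1
      apply Subtype.ext
      simp only [Subgroup.coe_pow]
      change g' ^ r ^ (a - 1) * (X : GL (Fin n) F) * (g' ^ r ^ (a - 1))⁻¹ = X
      rw [← h3, mul_inv_cancel_right]
  -- numerics
  have hone : ∀ r : ℕ, r.Prime → r ∣ m → m.factorization r = 1 ∧ r = k + 1 := by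
    intro r hr hrm
    have h1 := key r hr hrm
    have ha0 : 0 < m.factorization r := hr.factorization_pos_of_dvd hm0 hrm
    have h2 := h.num.succ_le hr hrm
    have h3 := h.num.nlt
    have h4 := h.num.seven_le hr hrm
    have h5 : m.factorization r = 1 := by
      by_contra hne
      have h6 : 2 ≤ m.factorization r := by omega
      have h7 : r ^ 2 ≤ r ^ m.factorization r := Nat.pow_le_pow_right hr.pos h6
      have h8 : r * 2 ≤ r ^ 2 := by
        rw [pow_two]
        exact Nat.mul_le_mul_left _ (by omega)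
      omega
    refine ⟨h5, ?_⟩
    rw [h5, pow_one] at h1
    obtain ⟨d, hd⟩ := h.num.dvd_sub_one hr hrm
    have h6 : d = 1 := by
      have hd0 : d ≠ 0 := by
        rintro rfl
        omega
      by_contra hne
      have h7 : 2 ≤ d := by omega
      have h8 : k * 2 ≤ k * d := Nat.mul_le_mul_left _ h7
      omega
    rw [h6, mul_one] at hd
    omega
  refine h.num.kill (r₀ := k + 1) (by omega) (fun r hr hrm => (hone r hr hrm).2) ?_
  intro hsq
  obtain ⟨r, hr, hrm⟩ := h.num.exists_prime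
  obtain ⟨h1, h2⟩ := hone r hr hrm
  rw [← h2] at hsq
  have h3 := (hr.pow_dvd_iff_le_factorization hm0).1 hsq
  omega

end Cfsg.Agent.H462.Ppd
end

-- part: H462/Ppd/FieldGood
section
/-!
# TEAM PPD (S5948): a good prime from field data (helper462)

`good_of_FD h e p hT` : if `T ≅ Soc P` has field data in the characteristic of `F`, some prime `r ∣ m` divides `|T|`.
-/

set_option autoImplicit false

namespace Cfsg.Agent.H462.Ppd

open Cfsg Cfsg.Geo Matrix Cfsg.Agent.H100.Ppd
open Cfsg.Agent.H915.LD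

universe u v

variable {n : ℕ} {F : Type u} [Field F] [Finite F] {k m : ℕ} {P : Subgroup (GL (Fin n) F)}

theorem good_of_FD (h : Row k m P) {T : Type v} [Group T] (e : Soc P ≃* T) (p : ℕ) [Fact p.Prime] [CharP F p]
    (hT : FD T p) : ∃ r, r.Prime ∧ r ∣ m ∧ r ∣ Nat.card T := by
  obtain ⟨b, c, φ, x, h1, h2, h3, h4, h5, h6⟩ := hT
  exact good_of_field h e p φ x h1 h2 h3 h4 h5 h6

end Cfsg.Agent.H462.Ppd
end

-- part: H14/FdAbs
section
/-!
# Field data: the group theory (task PPD-FD2 of S5948)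

`FD p T` : the conclusion of the tasks `fd_X`; `fd_abs` : `T` has an automorphism `Φ` and an element `x` with
`Φ x = x ^ p` and `x ^ i = 1 ↔ p ^ f - 1 ∣ 2 i`, and `|Aut T| = d f |T|` with `d` prime to the primes `≥ 7`.
-/

set_option autoImplicit false

namespace Cfsg.Agent.H14.FdAbs

/-- Field data. -/
def FD (p : ℕ) (T : Type*) [Group T] : Prop :=
  ∃ (b c : ℕ) (φ : MulAut T) (x : T), Nat.card (MulAut T) = Nat.card T * (c * b) ∧
    (∀ r : ℕ, r.Prime → 7 ≤ r → r ∣ c → r ∣ Nat.card T) ∧ orderOf φ = b ∧ φ x = x ^ p ∧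
    ¬ p ∣ orderOf x ∧ ∀ s : ℕ, x ^ p ^ s = x → b ∣ s

theorem dvd_of_sub_one_dvd {p b s : ℕ} (hp : 2 ≤ p) (h : p ^ b - 1 ∣ 2 * (p ^ s - 1)) : b ∣ s := by
  rcases Nat.eq_zero_or_pos b with hb | hb
  · subst hb
    rw [pow_zero, Nat.sub_self, Nat.zero_dvd] at h
    rcases Nat.eq_zero_or_pos s with hs | hs
    · rw [hs]
    · exfalso
      have h1 : 2 ≤ p ^ s := le_trans hp (Nat.le_self_pow hs.ne' p)
      omega
  have h1 : p ^ b - 1 ∣ 2 * (p ^ Nat.gcd b s - 1) := by
    rw [← Nat.pow_sub_one_gcd_pow_sub_one, ← Nat.gcd_mul_left]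
    exact Nat.dvd_gcd (Dvd.intro_left _ rfl) h
  set d := Nat.gcd b s with hd
  have hdb : d ∣ b := Nat.gcd_dvd_left b s
  by_cases hdb' : d = b
  · rw [← hdb']; exact Nat.gcd_dvd_right b s
  exfalso
  have hd0 : 0 < d := Nat.gcd_pos_of_pos_left _ hb
  obtain ⟨k, hk⟩ := hdb
  have hk2 : 2 ≤ k := by
    by_contra hlt
    have : k = 0 ∨ k = 1 := by omega
    rcases this with h2 | h2
    · rw [h2, mul_zero] at hk; omega
    · rw [h2, mul_one] at hk; exact hdb' hk.symm
  have h2 : 2 ≤ p ^ d := le_trans hp (Nat.le_self_pow hd0.ne' p)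
  have h3 : p ^ d * p ^ d ≤ p ^ b := by
    rw [← pow_add]
    apply Nat.pow_le_pow_right (by omega)
    rw [hk]
    nlinarith only [hk2]
  have h4 : p ^ b - 1 ≤ 2 * (p ^ d - 1) := Nat.le_of_dvd (by omega) h1
  have h5 : 2 * p ^ d ≤ p ^ d * p ^ d := Nat.mul_le_mul_right _ h2
  omega

theorem exists_split (N : ℕ) : ∀ f : ℕ, 0 < f → ∃ f1 b : ℕ, f = f1 * b ∧ Nat.Coprime f1 b ∧ Nat.Coprime b N ∧
    ∀ r : ℕ, r.Prime → r ∣ f1 → r ∣ N := by
  intro f
  induction f using Nat.strong_induction_on with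
  | _ f ih =>
    intro hf
    by_cases hc : Nat.Coprime f N
    · refine ⟨1, f, (one_mul f).symm, Nat.coprime_one_left _, hc, ?_⟩
      intro r hr h1
      exact absurd (Nat.dvd_one.1 h1) hr.one_lt.ne'
    · obtain ⟨r, hr, hrf, hrN⟩ := Nat.Prime.not_coprime_iff_dvd.1 hc
      obtain ⟨k, f', hrf', hk⟩ := Nat.exists_eq_pow_mul_and_not_dvd hf.ne' r hr.one_lt.ne'
      have hf' : 0 < f' := by
        rcases Nat.eq_zero_or_pos f' with h0 | h0
        · subst h0; exact absurd (dvd_zero _) hrf'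
        · exact h0
      have hk0 : k ≠ 0 := by
        rintro rfl
        rw [pow_zero, one_mul] at hk
        exact hrf' (hk ▸ hrf)
      have hlt : f' < f := by
        rw [hk]
        have h2 : 2 ≤ r ^ k := le_trans hr.two_le (Nat.le_self_pow hk0 r)
        nlinarith only [hf', h2]
      obtain ⟨f1, b, e, h1, h2, h3⟩ := ih f' hlt hf'
      refine ⟨r ^ k * f1, b, by rw [hk, e, mul_assoc], ?_, h2, ?_⟩
      · refine Nat.Coprime.mul_left ?_ h1
        apply Nat.Coprime.pow_left
        rw [Nat.Prime.coprime_iff_not_dvd hr]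
        intro h4
        exact hrf' (e ▸ h4.mul_left _)
      · intro s hs hsd
        rcases (Nat.Prime.dvd_mul hs).1 hsd with h4 | h4
        · have h5 := hs.dvd_of_dvd_pow h4
          rw [(Nat.prime_dvd_prime_iff_eq hs hr).1 h5]
          exact hrN
        · exact h3 s hs h4

theorem pow_apply {T : Type*} [Group T] {p : ℕ} {Φ : MulAut T} {x : T} (h : Φ x = x ^ p) (j : ℕ) :
    (Φ ^ j) x = x ^ p ^ j := by
  induction j with
  | zero => simp
  | succ j ih =>
    rw [pow_succ', MulAut.mul_apply, ih, map_pow, h, ← pow_mul, ← pow_succ']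

theorem pow_eq_self_iff {T : Type*} [Group T] (x : T) {n : ℕ} (hn : 1 ≤ n) : x ^ n = x ↔ x ^ (n - 1) = 1 := by
  obtain ⟨m, rfl⟩ : ∃ m, n = m + 1 := ⟨n - 1, by omega⟩
  rw [pow_succ, Nat.add_sub_cancel]
  constructor
  · intro h; exact mul_eq_right.1 h
  · intro h; rw [h, one_mul]

theorem fd_abs {T : Type*} [Group T] [Finite T] {p f d : ℕ} (hp : p.Prime) (hf : 0 < f)
    (hcard : Nat.card (MulAut T) = d * f * Nat.card T) (hd : ∀ r : ℕ, r.Prime → 7 ≤ r → ¬ r ∣ d)
    (Φ : MulAut T) (x : T) (hx : ∀ i : ℕ, x ^ i = 1 ↔ p ^ f - 1 ∣ 2 * i) (h : Φ x = x ^ p)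
    (hN : ∀ r : ℕ, r.Prime → 7 ≤ r → r ∣ orderOf (Φ ^ f) → r ∣ Nat.card T) : FD p T := by
  have hp2 := hp.two_le
  have hpos : ∀ j : ℕ, 1 ≤ p ^ j := fun j => Nat.one_le_pow _ _ (by omega)
  have hfN : f ∣ orderOf Φ := by
    apply dvd_of_sub_one_dvd hp2
    rw [← hx, ← pow_eq_self_iff x (hpos _), ← pow_apply h, pow_orderOf_eq_one]
    rfl
  have hNpos : 0 < orderOf Φ := orderOf_pos Φ
  obtain ⟨N', hN'⟩ := hfN
  have hN'pos : 0 < N' := by
    rcases Nat.eq_zero_or_pos N' with h0 | h0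
    · rw [h0, mul_zero] at hN'; omega
    · exact h0
  have hN'' : orderOf (Φ ^ f) = N' := by
    rw [orderOf_pow' _ hf.ne', hN', Nat.gcd_mul_right_left, Nat.mul_div_cancel_left _ hf]
  obtain ⟨f1, b, e, hc1, hc2, hc3⟩ := exists_split N' f hf
  have hb : 0 < b := by
    rcases Nat.eq_zero_or_pos b with h0 | h0
    · rw [h0, mul_zero] at e; omega
    · exact h0
  have hf1 : 0 < f1 := by
    rcases Nat.eq_zero_or_pos f1 with h0 | h0
    · rw [h0, zero_mul] at e; omega
    · exact h0
  have hco : Nat.Coprime b (f1 * N') := Nat.Coprime.mul_right hc1.symm hc2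
  obtain ⟨j, hj1, hj2⟩ := Nat.chineseRemainder hco 1 0
  have hj2' : f1 * N' ∣ j := (Nat.modEq_zero_iff_dvd).1 hj2
  have hjb : Nat.gcd b j = 1 := by
    have h1 := hj1.gcd_eq
    rw [Nat.gcd_comm, h1, Nat.gcd_one_left]
  -- the order of `Φ ^ j`
  have hord : orderOf (Φ ^ j) = b := by
    have h1 : orderOf Φ = b * (f1 * N') := by rw [hN', e]; ring
    rw [orderOf_pow, h1]
    have h2 : Nat.gcd (b * (f1 * N')) j = f1 * N' := by
      rw [Nat.gcd_comm, Nat.Coprime.gcd_mul _ hco, Nat.gcd_comm, hjb, one_mul]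
      exact Nat.gcd_eq_right hj2'
    rw [h2]
    exact Nat.mul_div_cancel _ (by positivity)
  -- the element
  obtain ⟨m, hm⟩ : p ^ b - 1 ∣ p ^ f - 1 := by
    rw [e, mul_comm f1 b, pow_mul]
    exact Nat.sub_one_dvd_pow_sub_one _ _
  have hy : ∀ i : ℕ, (x ^ m) ^ i = 1 ↔ p ^ b - 1 ∣ 2 * i := by
    intro i
    have hm0 : m ≠ 0 ∨ p ^ f - 1 = 0 := by
      by_contra hcon
      push Not at hcon
      apply hcon.2
      rw [hm, hcon.1, mul_zero]
    have h2f : 2 ≤ p ^ f := le_trans hp2 (Nat.le_self_pow hf.ne' p)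
    have hm0' : 0 < m := by
      rcases hm0 with h1 | h1
      · omega
      · omega
    rw [← pow_mul, hx, hm, show 2 * (m * i) = (2 * i) * m by ring]
    exact Nat.mul_dvd_mul_iff_right hm0'
  have hy1 : (x ^ m) ^ (p ^ b - 1) = 1 := (hy _).2 (Dvd.intro_left _ rfl)
  have hΦy : Φ (x ^ m) = (x ^ m) ^ p := by rw [map_pow, h, ← pow_mul, ← pow_mul, mul_comm]
  refine ⟨b, d * f1, Φ ^ j, x ^ m, ?_, ?_, hord, ?_, ?_, ?_⟩
  · rw [hcard, e]; ring
  · intro r hr hr7 hrd
    rcases (Nat.Prime.dvd_mul hr).1 hrd with h1 | h1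
    · exact absurd h1 (hd r hr hr7)
    · apply hN r hr hr7
      rw [hN'']
      exact hc3 r hr h1
  · rw [pow_apply hΦy]
    have h1 : (p ^ j : ℕ) ≡ p [MOD (p ^ b - 1)] := by
      have h2 : ((p : ZMod (p ^ b - 1))) ^ b = 1 := by
        have h3 : ((p ^ b - 1 + 1 : ℕ) : ZMod (p ^ b - 1)) = 1 := by
          rw [Nat.cast_add, ZMod.natCast_self, zero_add, Nat.cast_one]
        have h4 : p ^ b - 1 + 1 = p ^ b := Nat.sub_add_cancel (hpos b)
        rw [h4, Nat.cast_pow] at h3
        exact h3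
      have h5 : ((p : ZMod (p ^ b - 1))) ^ j = (p : ZMod (p ^ b - 1)) ^ 1 := pow_eq_pow_of_modEq hj1 h2
      rw [pow_one] at h5
      rw [← ZMod.natCast_eq_natCast_iff, Nat.cast_pow]
      exact h5
    have h2 : orderOf (x ^ m) ∣ p ^ b - 1 := orderOf_dvd_of_pow_eq_one hy1
    exact pow_eq_pow_iff_modEq.2 (h1.of_dvd h2)
  · intro hpd
    have h2 : p ∣ p ^ b - 1 := hpd.trans (orderOf_dvd_of_pow_eq_one hy1)
    have h3 : p ∣ p ^ b := dvd_pow_self p hb.ne'
    have h4 := Nat.dvd_sub h3 h2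
    rw [Nat.sub_sub_self (hpos b)] at h4
    exact hp.one_lt.ne' (Nat.dvd_one.1 h4)
  · intro s hs
    rw [pow_eq_self_iff _ (hpos s), hy] at hs
    exact dvd_of_sub_one_dvd hp2 hs

theorem FD.of_equiv {p : ℕ} {T T' : Type*} [Group T] [Group T'] (e : T ≃* T') (h : FD p T) : FD p T' := by
  obtain ⟨b, c, φ, x, h1, h2, h3, h4, h5, h6⟩ := h
  refine ⟨b, c, MulAut.congr e φ, e x, ?_, ?_, ?_, ?_, ?_, ?_⟩
  · rw [← Nat.card_congr (MulAut.congr e).toEquiv, h1, Nat.card_congr e.toEquiv]
  · intro r hr hr7 hrc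
    rw [← Nat.card_congr e.toEquiv]
    exact h2 r hr hr7 hrc
  · rw [← h3]
    exact orderOf_injective (MulAut.congr e).toMonoidHom (MulAut.congr e).injective φ
  · show e (φ (e.symm (e x))) = _
    rw [MulEquiv.symm_apply_apply, h4, map_pow]
  · have h7 : orderOf (e x) = orderOf x := orderOf_injective e.toMonoidHom e.injective x
    rw [h7]
    exact h5
  · intro s hs
    apply h6
    apply e.injective
    rw [map_pow, hs]

end Cfsg.Agent.H14.FdAbs
end

-- part: H14/PpdFD2
section
/-!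
# Field data of the orthogonal groups (task PPD-FD2 of S5948)

`fd_odd`, `fd_plus`, `fd_minus`.
-/

set_option autoImplicit false
set_option linter.unusedSectionVars false

namespace Cfsg.Agent.H14.PpdFD2

open QuadraticMap Cfsg.Agent.LieClassical.OrthCore Cfsg.Agent.LieClassical.OrthTrans
  Cfsg.Agent.LieClassical.OrthSimple Cfsg.Agent.ClassicalGeometry.OrthSemi
  Cfsg.Agent.ClassicalGeometry.OrthSemiCount Cfsg.Agent.ClassicalGeometry.OrthSemiForms
  Cfsg.Agent.LieClassical.OrthForms Cfsg.Agent.H14.FdAbs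

section torus

variable {F V : Type*} [Field F] [AddCommGroup V] [Module F V] {Q : QuadraticForm F V}

/-- The torus of a hyperbolic pair: the map. -/
def torFun (Q : QuadraticForm F V) (x y : V) (θ : Fˣ) (v : V) : V :=
  v + (((θ : F) - 1) * polar Q y v) • x + (((θ : F)⁻¹ - 1) * polar Q x v) • y

theorem torFun_mul {x y : V} (h : Hyp Q x y) (θ η : Fˣ) (v : V) :
    torFun Q x y (θ * η) v = torFun Q x y θ (torFun Q x y η v) := by
  simp only [torFun, polar_add_right, polar_smul_right, h.polar_left, h.polar_right, h.pair, h.pair', smul_eq_mul,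
    mul_inv, Units.val_mul]
  module

theorem torFun_one (x y v : V) : torFun Q x y 1 v = v := by
  simp [torFun]

/-- The torus of a hyperbolic pair. -/
def tor {x y : V} (h : Hyp Q x y) : Fˣ →* (V ≃ₗ[F] V) where
  toFun θ :=
    { toFun := torFun Q x y θ
      invFun := torFun Q x y θ⁻¹
      map_add' := fun u v => by
        simp only [torFun, polar_add_right]
        module
      map_smul' := fun a v => by
        simp only [torFun, polar_smul_right, smul_eq_mul, RingHom.id_apply]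
        module
      left_inv := fun v => by
        rw [← torFun_mul h, inv_mul_cancel, torFun_one]
      right_inv := fun v => by
        rw [← torFun_mul h, mul_inv_cancel, torFun_one] }
  map_one' := by
    ext v
    exact torFun_one x y v
  map_mul' θ η := by
    ext v
    exact torFun_mul h θ η v

theorem tor_apply {x y : V} (h : Hyp Q x y) (θ : Fˣ) (v : V) :
    tor h θ v = v + (((θ : F) - 1) * polar Q y v) • x + (((θ : F)⁻¹ - 1) * polar Q x v) • y := rfl

theorem tor_eq_refl {x y : V} (h : Hyp Q x y) (θ : Fˣ) (h1 : Q (x - y) ≠ 0) (h2 : Q (x - (θ : F) • y) ≠ 0) :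
    tor h θ = refl Q (x - y) h1 * refl Q (x - (θ : F) • y) h2 := by
  have e1 : ∀ c : F, Q (x - c • y) = - c := by
    intro c
    rw [sub_eq_add_neg, Q_add, ← neg_smul, QuadraticMap.map_smul, h.left, h.right, polar_smul_right, h.pair]
    simp
  have e2 : Q (x - y) = -1 := by
    have := e1 1
    rwa [one_smul] at this
  have hθ : (θ : F) ≠ 0 := θ.ne_zero
  ext v
  show _ = refl Q (x - y) h1 (refl Q (x - (θ : F) • y) h2 v)
  rw [tor_apply, refl_apply, refl_apply, e1, e2]
  simp only [polar_sub_right, polar_sub_left, polar_smul_right, polar_smul_left, h.polar_left, h.polar_right,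
    h.pair, h.pair', smul_eq_mul]
  match_scalars
  · ring
  · field_simp
    ring
  · field_simp
    ring

theorem sq_mem_E (hG : Good Q) {x y : V} (h : Hyp Q x y) (θ : Fˣ) : tor h (θ ^ 2) ∈ E Q := by
  have e1 : ∀ c : F, Q (x - c • y) = - c := by
    intro c
    rw [sub_eq_add_neg, Q_add, ← neg_smul, QuadraticMap.map_smul, h.left, h.right, polar_smul_right, h.pair]
    simp
  have e2 : Q (x - y) = -1 := by
    have := e1 1
    rwa [one_smul] at this
  have hθ : (θ : F) ≠ 0 := θ.ne_zero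
  have h1 : Q (x - y) ≠ 0 := by rw [e2]; exact neg_ne_zero.2 one_ne_zero
  have h2 : Q (x - ((θ ^ 2 : Fˣ) : F) • y) ≠ 0 := by rw [e1]; exact neg_ne_zero.2 (Units.ne_zero _)
  have h3 : Q ((θ : F) • (x - y)) ≠ 0 := by
    rw [QuadraticMap.map_smul, e2]
    simp
  rw [tor_eq_refl h (θ ^ 2) h1 h2, ← refl_smul h1 hθ h3]
  apply hG.refl_mul_refl_mem
  rw [e1, QuadraticMap.map_smul, e2, Units.val_pow_eq_pow_val]
  simp [pow_two]

/-- The torus of `E Q`. -/
def torE (hG : Good Q) {x y : V} (h : Hyp Q x y) : Fˣ →* ↥(E Q) where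
  toFun θ := ⟨tor h (θ ^ 2), sq_mem_E hG h θ⟩
  map_one' := by
    apply Subtype.ext
    show tor h (1 ^ 2) = 1
    rw [one_pow, map_one]
  map_mul' a b := by
    apply Subtype.ext
    show tor h ((a * b) ^ 2) = tor h (a ^ 2) * tor h (b ^ 2)
    rw [mul_pow, map_mul]

/-- `E Q` has trivial elements only among the central ones fixing a nonzero vector -/
theorem scalar_of_center (hG : Good Q) {g : ↥(E Q)} (hg : g ∈ Subgroup.center ↥(E Q)) :
    ∃ a : F, ∀ v, (g : V ≃ₗ[F] V) v = a • v := by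
  let M : Gam Q := ⟨permO Q ⟨g, E_le_O g.2⟩, _, _, isSS_permO _⟩
  have h1 : conjE Q M = 1 := by
    ext k : 2
    show conjLin M k.1 = k.1
    ext v
    obtain ⟨v, rfl⟩ := M.1.surjective v
    rw [conjLin_apply']
    show (g : V ≃ₗ[F] V) ((k : V ≃ₗ[F] V) v) = (k : V ≃ₗ[F] V) ((g : V ≃ₗ[F] V) v)
    have h2 := congrArg Subtype.val ((Subgroup.mem_center_iff.1 hg) k)
    exact (LinearEquiv.congr_fun h2 v).symm
  obtain ⟨a, -, ha⟩ := exists_scalar_of_conjE hG M h1
  exact ⟨a, ha⟩

theorem torE_mk_eq_one (hG : Good Q) {x y : V} (h : Hyp Q x y) (θ : Fˣ) :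
    (QuotientGroup.mk (torE hG h θ) : ↥(E Q) ⧸ Subgroup.center ↥(E Q)) = 1 ↔ θ ^ 2 = 1 := by
  rw [QuotientGroup.eq_one_iff]
  constructor
  · intro hc
    obtain ⟨a, ha⟩ := scalar_of_center hG hc
    obtain ⟨z, w, hzw, hxz, hxw, hyz, hyw⟩ := hG.exists_hyp2 h
    have h1 := ha z
    have h2 : (torE hG h θ : V ≃ₗ[F] V) z = z := by
      show tor h (θ ^ 2) z = z
      rw [tor_apply, hxz, hyz, mul_zero, mul_zero, zero_smul, zero_smul, add_zero, add_zero]
    rw [h2] at h1
    have h3 : (1 - a) • z = 0 := by rw [sub_smul, one_smul, ← h1, sub_self]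
    have h4 : a = 1 := by
      rcases smul_eq_zero.1 h3 with h5 | h5
      · exact (sub_eq_zero.1 h5).symm
      · exact absurd h5 hzw.left_ne
    have h5 := ha x
    have h6 : (torE hG h θ : V ≃ₗ[F] V) x = ((θ ^ 2 : Fˣ) : F) • x := by
      show tor h (θ ^ 2) x = _
      rw [tor_apply, h.pair', h.polar_left]
      module
    rw [h6, h4, one_smul] at h5
    have h7 : (((θ ^ 2 : Fˣ) : F) - 1) • x = 0 := by rw [sub_smul, h5, one_smul, sub_self]
    rcases smul_eq_zero.1 h7 with h8 | h8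
    · exact Units.ext (sub_eq_zero.1 h8)
    · exact absurd h8 h.left_ne
  · intro hθ
    have h1 : torE hG h θ = 1 := by
      apply Subtype.ext
      show tor h (θ ^ 2) = 1
      rw [hθ, map_one]
    rw [h1]
    exact Subgroup.one_mem _

/-- A semi-isometry fixing `x` and `y` acts on the torus. -/
theorem conjE_torE (hG : Good Q) {x y : V} (h : Hyp Q x y) {σ : F ≃+* F} (M : Gam Q)
    (hM : IsSS Q σ 1 M.1) (hx : M.1 x = x) (hy : M.1 y = y) (θ : Fˣ) :
    conjE Q M (torE hG h θ) = torE hG h (Units.map (σ : F →* F) θ) := by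
  apply Subtype.ext
  show conjLin M (tor h (θ ^ 2)) = tor h ((Units.map (σ : F →* F) θ) ^ 2)
  ext v
  obtain ⟨v, rfl⟩ := M.1.surjective v
  have e1 : polar Q y (M.1 v) = σ (polar Q y v) := by
    have := hM.polar y v
    rwa [hy, one_mul] at this
  have e2 : polar Q x (M.1 v) = σ (polar Q x v) := by
    have := hM.polar x v
    rwa [hx, one_mul] at this
  rw [conjLin_apply', tor_apply, tor_apply, hM.add, hM.add, hM.smul, hM.smul, hx, hy, e1, e2, ← map_pow,
    Units.coe_map]
  simp only [map_mul, map_sub, map_one, map_inv₀, MonoidHom.coe_coe]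

end torus

section main

variable {F V : Type*} [Field F] [AddCommGroup V] [Module F V] {Q : QuadraticForm F V}

/-- Normalising a semi-isometry on a hyperbolic pair. -/
theorem exists_fix (hG : Good Q) {σ : F ≃+* F} {M : Equiv.Perm V} (hM : IsSS Q σ 1 M) {x y : V} (h : Hyp Q x y) :
    ∃ M' : Equiv.Perm V, IsSS Q σ 1 M' ∧ M' x = x ∧ M' y = y := by
  have h1 : Hyp Q (M x) (M y) := by
    refine ⟨?_, ?_, ?_⟩
    · rw [hM.form, h.left, map_zero, mul_zero]
    · rw [hM.form, h.right, map_zero, mul_zero]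
    · rw [hM.polar, h.pair, map_one, mul_one]
  obtain ⟨g, hg, hgx, hgy⟩ := hG.trans_hyp h1 h
  refine ⟨permO Q ⟨g, E_le_O hg⟩ * M, ?_, hgx, hgy⟩
  have h2 := (isSS_permO (Q := Q) ⟨g, E_le_O hg⟩).mul hM
  have e1 : σ.trans (RingEquiv.refl F) = σ := by ext; rfl
  have e2 : (1 : F) * (RingEquiv.refl F) 1 = 1 := by rw [map_one, mul_one]
  rwa [e1, e2] at h2

theorem isSS_pow {σ : F ≃+* F} {M : Equiv.Perm V} (hM : IsSS Q σ 1 M) {p : ℕ} (hσ : ∀ a, σ a = a ^ p) (n : ℕ) :
    ∃ τ : F ≃+* F, (∀ a, τ a = a ^ p ^ n) ∧ IsSS Q τ 1 (M ^ n) := by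
  induction n with
  | zero =>
    refine ⟨RingEquiv.refl F, fun a => by simp, ?_⟩
    rw [pow_zero]
    refine ⟨one_ne_zero, fun _ _ => rfl, fun _ _ => rfl, fun v => ?_⟩
    rw [one_mul]; rfl
  | succ n ih =>
    obtain ⟨τ, hτ, h⟩ := ih
    refine ⟨τ.trans σ, fun a => ?_, ?_⟩
    · rw [RingEquiv.trans_apply, hσ, hτ, ← pow_mul, ← pow_succ]
    · have h1 := hM.mul h
      rwa [map_one, mul_one, ← pow_succ'] at h1

theorem fd_E [Finite V] [Finite F] (hG : Good Q) {p f d : ℕ} (hp : p.Prime) (hf : 0 < f)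
    (hF : Nat.card F = p ^ f) {σ : F ≃+* F} (hσ : ∀ a, σ a = a ^ p) {M : Equiv.Perm V} (hM : IsSS Q σ 1 M)
    (hcard : Nat.card (MulAut (↥(E Q) ⧸ Subgroup.center ↥(E Q))) =
      d * f * Nat.card (↥(E Q) ⧸ Subgroup.center ↥(E Q)))
    (hd : ∀ r : ℕ, r.Prime → 7 ≤ r → ¬ r ∣ d)
    (hO : ∀ r : ℕ, r.Prime → 7 ≤ r → r ∣ Nat.card (O Q) → r ∣ Nat.card (↥(E Q) ⧸ Subgroup.center ↥(E Q))) :
    FD p (↥(E Q) ⧸ Subgroup.center ↥(E Q)) := by
  obtain ⟨x, y, h⟩ := hG.exists_hyp
  obtain ⟨M', hM', hx, hy⟩ := exists_fix hG hM h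
  have : Finite (V ≃ₗ[F] V) := Finite.of_injective (fun g => (g : V → V)) (fun a b hab => by
    ext v; exact congrFun hab v)
  have hfinE : Finite ↥(E Q) := inferInstance
  have hfin : Finite (↥(E Q) ⧸ Subgroup.center ↥(E Q)) := inferInstance
  have : Fintype F := Fintype.ofFinite F
  obtain ⟨θ, hθ⟩ := IsCyclic.exists_generator (α := Fˣ)
  have hordθ : orderOf θ = p ^ f - 1 := by
    rw [orderOf_eq_card_of_forall_mem_zpowers hθ, Nat.card_units, hF]
  let M0 : Gam Q := ⟨M', _, _, hM'⟩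
  refine fd_abs hp hf hcard hd (Psi Q M0) (QuotientGroup.mk (torE hG h θ)) ?_ ?_ ?_
  · intro i
    rw [← QuotientGroup.mk_pow, ← map_pow, torE_mk_eq_one, ← pow_mul, ← orderOf_dvd_iff_pow_eq_one, hordθ,
      mul_comm]
  · rw [Psi_mk, conjE_torE hG h M0 hM' hx hy, ← QuotientGroup.mk_pow, ← map_pow]
    congr 2
    ext
    rw [Units.coe_map, Units.val_pow_eq_pow_val]
    exact hσ _
  · intro r hr hr7 hrd
    apply hO r hr hr7
    obtain ⟨τ, hτ, h1⟩ := isSS_pow hM' hσ f
    have h2 : τ = RingEquiv.refl F := by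
      ext a
      rw [hτ, RingEquiv.refl_apply, ← hF, Nat.card_eq_fintype_card]
      exact FiniteField.pow_card a
    rw [h2] at h1
    obtain ⟨g, hg⟩ := exists_permO h1
    have h3 : orderOf (Psi Q M0 ^ f) ∣ orderOf (M0 ^ f) := by
      rw [← map_pow]
      exact orderOf_map_dvd _ _
    have h4 : orderOf (M0 ^ f) = orderOf g := by
      rw [← orderOf_injective (permO Q) permO_injective g, hg, ← Subgroup.orderOf_coe]
      rfl
    have h5 : orderOf g ∣ Nat.card (O Q) := orderOf_dvd_natCard g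
    exact hrd.trans (h3.trans (h4 ▸ h5))

end main

section forms

theorem exists_frob {F : Type*} [Field F] [Finite F] {p f : ℕ} (hp : p.Prime) (hF : Nat.card F = p ^ f) :
    ∃ σ : F ≃+* F, ∀ a, σ a = a ^ p := by
  have : Fact p.Prime := ⟨hp⟩
  have : Fintype F := Fintype.ofFinite F
  have hchar : CharP F p := charP_of_card_eq_prime_pow (f := f) (by rw [← Nat.card_eq_fintype_card]; exact hF)
  exact ⟨frobeniusEquiv F p, fun a => frobeniusEquiv_def F p a⟩

variable {ι : Type} [Fintype ι] [DecidableEq ι] {F : Type} [Field F] [Finite F]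

theorem fd_form {Q : QuadraticForm F (ι → F)} (hG : Good Q) {p f d : ℕ} (hp : p.Prime) (hf : 0 < f)
    (hF : Nat.card F = p ^ f) (hM : ∀ σ : F ≃+* F, ∃ M : Equiv.Perm (ι → F), IsSS Q σ 1 M)
    (hcard : Nat.card (MulAut (Cfsg.POmega F ⇑Q)) = d * f * Nat.card (Cfsg.POmega F ⇑Q))
    (hd : ∀ r : ℕ, r.Prime → 7 ≤ r → ¬ r ∣ d)
    (hO : ∀ r : ℕ, r.Prime → 7 ≤ r → r ∣ Nat.card (Cfsg.isometryGroup F ⇑Q) →
      r ∣ Nat.card (Cfsg.POmega F ⇑Q)) : FD p (Cfsg.POmega F ⇑Q) := by
  refine FD.of_equiv (pomegaEquiv hG).symm ?_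
  obtain ⟨σ, hσ⟩ := exists_frob hp hF
  obtain ⟨M, hM⟩ := hM σ
  rw [← card_O] at hO
  rw [card_mulAut hG, Nat.card_congr (pomegaEquiv hG).toEquiv] at hcard
  rw [Nat.card_congr (pomegaEquiv hG).toEquiv] at hO
  exact fd_E hG hp hf hF hσ hM hcard hd hO

theorem not_dvd_of_smooth {r d : ℕ} (hr : r.Prime) (hr7 : 7 ≤ r) (hd : d ∣ 2 ^ 10 * 3 ^ 10) : ¬ r ∣ d := by
  intro h
  have h1 := h.trans hd
  rcases (Nat.Prime.dvd_mul hr).1 h1 with h2 | h2
  · have := Nat.le_of_dvd (by norm_num) (hr.dvd_of_dvd_pow h2)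
    omega
  · have := Nat.le_of_dvd (by norm_num) (hr.dvd_of_dvd_pow h2)
    omega

theorem four_aux {r k T : ℕ} (hr : r.Prime) (hr7 : 7 ≤ r) (h : r ∣ 2 * (Nat.gcd 4 k * T)) : r ∣ T := by
  rcases (Nat.Prime.dvd_mul hr).1 h with h1 | h1
  · exact absurd h1 (not_dvd_of_smooth hr hr7 (by norm_num))
  · rcases (Nat.Prime.dvd_mul hr).1 h1 with h2 | h2
    · exact absurd (h2.trans (Nat.gcd_dvd_left _ _)) (not_dvd_of_smooth hr hr7 (by norm_num))
    · exact h2

variable {p f : ℕ}

/-- **Field data of `PΩ_{2 m + 1}(q)`.** -/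
theorem fd_odd [Fact p.Prime] (hf : 1 ≤ f) (hF : Nat.card F = p ^ f) (hodd : Odd p) {m : ℕ} (hm : 3 ≤ m) :
    FD p (Cfsg.POmega F (Cfsg.quadFormOdd m F)) := by
  have : Fintype F := Fintype.ofFinite F
  have hF' : Fintype.card F = p ^ f := by rw [← Nat.card_eq_fintype_card]; exact hF
  have hq : Odd (p ^ f) := hodd.pow
  have h2 : (2 : F) ≠ 0 := Cfsg.Agent.LieClassical.PomegaCard.odd_card_iff.1 (by rw [hF']; exact hq)
  rw [← coe_oddForm]
  refine fd_form (d := 2) (good_odd (by omega) h2) Fact.out (by omega) hF (odd_exists h2 m) ?_ ?_ ?_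
  · rw [coe_oddForm]
    exact Cfsg.Agent.S0816.result p f hf hF' hodd m hm
  · intro r hr hr7
    exact not_dvd_of_smooth hr hr7 (by norm_num)
  · intro r hr hr7 h
    rw [coe_oddForm] at h ⊢
    rw [Cfsg.Agent.S0286.result hF' hq m] at h
    have h3 := Cfsg.Agent.S0292.result hF' hq m hm
    rw [mul_assoc, ← h3, ← mul_assoc] at h
    exact ((Nat.Prime.dvd_mul hr).1 h).resolve_left (not_dvd_of_smooth hr hr7 (by norm_num))

/-- **Field data of `PΩ⁺_{2 m}(q)`.** -/
theorem fd_plus [Fact p.Prime] (hf : 1 ≤ f) (hF : Nat.card F = p ^ f) {m : ℕ} (hm : 4 ≤ m) :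
    FD p (Cfsg.POmega F (Cfsg.quadFormPlus m F)) := by
  have : Fintype F := Fintype.ofFinite F
  have hF' : Fintype.card F = p ^ f := by rw [← Nat.card_eq_fintype_card]; exact hF
  rw [← coe_plusForm]
  refine fd_form (d := (if m = 4 then 3 else 1) * (if p = 2 then 2 else
    (if Even (m * (p ^ f - 1) / 2) then 8 else 4))) (good_plus (by omega)) Fact.out (by omega) hF
    (fun σ => plus_exists m σ 1 one_ne_zero) ?_ ?_ ?_
  · rw [coe_plusForm]
    exact Cfsg.Agent.S0817.result p f hf hF' m hm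
  · intro r hr hr7
    apply not_dvd_of_smooth hr hr7
    split_ifs <;> norm_num
  · intro r hr hr7 h
    rw [coe_plusForm] at h ⊢
    rw [Cfsg.Agent.S0287.result hF' m (by omega)] at h
    have h3 := Cfsg.Agent.S0293.result hF' m hm
    have h4 : 2 * (p ^ f) ^ (m * (m - 1)) * ((p ^ f) ^ m - 1) *
        ∏ i ∈ Finset.range (m - 1), ((p ^ f) ^ (2 * (i + 1)) - 1) =
        2 * ((p ^ f) ^ (m * (m - 1)) * ((p ^ f) ^ m - 1) *
          ∏ i ∈ Finset.range (m - 1), ((p ^ f) ^ (2 * (i + 1)) - 1)) := by ring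
    rw [h4, ← h3] at h
    exact four_aux hr hr7 h

/-- **Field data of `PΩ⁻_{2 m}(q)`.** -/
theorem fd_minus [Fact p.Prime] (hf : 1 ≤ f) (hF : Nat.card F = p ^ f) {m : ℕ} (hm : 4 ≤ m) {a b : F}
    (hab : ∀ z₁ z₂ : F, z₁ ^ 2 + a * z₁ * z₂ + b * z₂ ^ 2 = 0 → z₁ = 0 ∧ z₂ = 0) :
    FD p (Cfsg.POmega F (Cfsg.quadFormMinus (m - 1) F a b)) := by
  have : Fintype F := Fintype.ofFinite F
  have hF' : Fintype.card F = p ^ f := by rw [← Nat.card_eq_fintype_card]; exact hF
  rw [← coe_minusForm]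
  refine fd_form (d := if p = 2 then 2 else (if Even (m * (p ^ f - 1) / 2) then 4 else 8))
    (good_minus (by omega) a b hab) Fact.out (by omega) hF
    (fun σ => minus_exists (m - 1) a b hab σ 1 one_ne_zero) ?_ ?_ ?_
  · rw [coe_minusForm]
    exact Cfsg.Agent.S0818.result p f hf hF' m hm a b hab
  · intro r hr hr7
    apply not_dvd_of_smooth hr hr7
    split_ifs <;> norm_num
  · intro r hr hr7 h
    rw [coe_minusForm] at h ⊢
    rw [Cfsg.Agent.S0288.result hF' m (by omega) a b hab] at h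
    have h3 := Cfsg.Agent.S0294.result hF' m hm a b hab
    have h4 : 2 * (p ^ f) ^ (m * (m - 1)) * ((p ^ f) ^ m + 1) *
        ∏ i ∈ Finset.range (m - 1), ((p ^ f) ^ (2 * (i + 1)) - 1) =
        2 * ((p ^ f) ^ (m * (m - 1)) * ((p ^ f) ^ m + 1) *
          ∏ i ∈ Finset.range (m - 1), ((p ^ f) ^ (2 * (i + 1)) - 1)) := by ring
    rw [h4, ← h3] at h
    exact four_aux hr hr7 h

end forms

end Cfsg.Agent.H14.PpdFD2
end

-- part: H47/Fd/Chev
section
/-!
# Field data for `G₂`, `F₄`, `E₆`, `E₇`, `E₈` (helper47, TEAM PPD, FD3)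
-/

set_option autoImplicit false

namespace Cfsg.Agent.H47.Fd

open Cfsg.Lie Cfsg.Agent.H967.CopMat Cfsg.Agent.H967.CopChev Cfsg.Agent.ChevalleyStructure
  Cfsg.Agent.ChevalleyStructure.Elts

section

variable {D : ChevalleyDatum}

theorem simpleDiag (hD : InList D) (F : Type*) [Field F] : TorusRange.SimpleDiag D F :=
  fun i hi c hc => Cfsg.Agent.S1033.result D hD i hi c hc

/-- the torus of a simple root -/
noncomputable def tor (hD : InList D) (F : Type*) [Field F] (i : Fin D.rank) : Fˣ →* ↥(D.group F) :=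
  ((TorusCount.torusHom D F).comp (MonoidHom.mulSingle (fun _ => Fˣ) i)).codRestrict (D.group F) fun z =>
    diagonal_le_group hD F (TorusRange.torusHom_mulSingle_mem (simpleDiag hD F)
      (fun i hi => (RootComb.good_of_mem hD).simple_lt hi) i z)

theorem coe_tor (hD : InList D) (F : Type*) [Field F] (i : Fin D.rank) (z : Fˣ) :
    ((tor hD F i z : ↥(D.group F)) : GL D.Idx F) = TorusCount.torusHom D F (Pi.mulSingle i z) := rfl

theorem map_torusHom {F : Type*} [Field F] (σ : F ≃+* F) (c : Fin D.rank → Fˣ) :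
    Matrix.GeneralLinearGroup.map (σ : F →+* F) (TorusCount.torusHom D F c) =
      TorusCount.torusHom D F (fun i => Units.map ((σ : F →+* F) : F →* F) (c i)) := by
  apply Units.ext
  have h1 : ((Matrix.GeneralLinearGroup.map (σ : F →+* F) (TorusCount.torusHom D F c) : GL D.Idx F) :
      Matrix D.Idx D.Idx F) = ((TorusCount.torusHom D F c : GL D.Idx F) : Matrix D.Idx D.Idx F).map (σ : F →+* F) := rfl
  rw [h1, TorusCount.coe_torusHom, TorusCount.coe_torusHom, Matrix.diagonal_map (map_zero _)]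
  congr 1
  funext x
  rcases x with j | s
  · exact map_one _
  · simp only [Function.comp_apply, Sum.elim_inr]
    rw [TorusCount.mon_def, TorusCount.mon_def, Units.coe_prod, Units.coe_prod, map_prod]
    refine Finset.prod_congr rfl fun i _ => ?_
    rw [Units.val_zpow_eq_zpow_val, map_zpow₀, Units.val_zpow_eq_zpow_val]
    rfl

theorem fieldAut_tor (hD : InList D) (F : Type*) [Field F] (i : Fin D.rank) (σ : F ≃+* F) (z : Fˣ) :
    fieldAut (stab_group D F) σ (tor hD F i z) = tor hD F i (Units.map ((σ : F →+* F) : F →* F) z) := by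
  apply Subtype.ext
  rw [coe_fieldAut, coe_tor, coe_tor, map_torusHom]
  congr 1
  funext j
  by_cases h : j = i
  · subst h
    rw [Pi.mulSingle_eq_same, Pi.mulSingle_eq_same]
  · rw [Pi.mulSingle_eq_of_ne h, Pi.mulSingle_eq_of_ne h, map_one]

theorem tor_inj (hD : InList D) (F : Type*) [Field F] (i : Fin D.rank) {s : ℕ} (hs : s < D.nroots)
    (h1 : D.cartan i s = 1) {z : Fˣ} (hz : tor hD F i z = 1) : z = 1 := by
  have h2 : TorusCount.torusHom D F (Pi.mulSingle i z) = 1 := congrArg Subtype.val hz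
  rw [TorusCount.torusHom_eq_one_iff] at h2
  have h3 := h2 s hs
  rw [TorusCount.mon_def, Finset.prod_eq_single i] at h3
  · rwa [Pi.mulSingle_eq_same, TorusCount.col_def, h1, zpow_one] at h3
  · intro j _ hj
    rw [Pi.mulSingle_eq_of_ne hj, one_zpow]
  · intro h
    exact absurd (Finset.mem_univ i) h

theorem fd_chev (hD : InList D) {F : Type*} [Field F] [Fintype F] {p N : ℕ} [Fact p.Prime] [CharP F p]
    (hF : Fintype.card F = p ^ N) (hs : IsSimpleGroup ↥(D.group F)) (hna : ¬ IsMulCommutative ↥(D.group F))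
    (i : Fin D.rank) (s : ℕ) (hs' : s < D.nroots) (h1 : D.cartan i s = 1) {c : ℕ} (hc0 : 0 < c) (hc : c ≤ 6)
    (hO : Nat.card (Cfsg.Out ↥(D.group F)) = c * N) : FD p ↥(D.group F) :=
  FD.of_hom (center_eq_bot hs hna) hF (fieldAut (stab_group D F)) (tor hD F i) (fieldAut_tor hD F i)
    (fun _ hz => tor_inj hD F i hs' h1 hz) (small_c hc0 hc) hO

end

variable {F : Type*} [Field F] [Fintype F] (p : ℕ) [hp : Fact p.Prime] [hc : CharP F p]

/-- the order of a finite field is a power of the characteristic -/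
theorem exists_N (F : Type*) [Field F] [Fintype F] (p : ℕ) [hp : Fact p.Prime] [hc : CharP F p] :
    ∃ N : ℕ, 1 ≤ N ∧ Fintype.card F = p ^ N := by
  obtain ⟨n, -, hn⟩ := FiniteField.card F p
  exact ⟨n, n.pos, hn⟩

theorem gcd_le {a b : ℕ} (ha : 0 < a) : 0 < Nat.gcd a b ∧ Nat.gcd a b ≤ a :=
  ⟨Nat.gcd_pos_of_pos_left _ ha, Nat.le_of_dvd ha (Nat.gcd_dvd_left _ _)⟩

/-- **Field data for `G₂`.** -/
theorem fd_g2 (h3 : 3 ≤ Fintype.card F) : FD p ↥(chevG2.group F) := by
  obtain ⟨N, hN, hF⟩ := exists_N F p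
  obtain ⟨hs, hna⟩ := S1055.result (F := F) (by
    by_contra hcon
    push Not at hcon
    have h1 : Fintype.card F ≤ 2 := by
      classical
      have h2 : (Finset.univ : Finset F) ⊆ {0, 1} := by
        intro a _
        rw [Finset.mem_insert, Finset.mem_singleton]
        by_cases h : a = 0
        · exact Or.inl h
        · exact Or.inr (hcon a h)
      exact (Finset.card_le_card h2).trans (Finset.card_le_two)
    omega)
  have hO := S2121.result p N hF (by rw [← hF]; exact h3)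
  by_cases h : p = 3
  · rw [if_pos h] at hO
    exact fd_chev (by simp) hF hs hna ⟨1, by decide⟩ 1 (by decide) (by decide) (c := 2) (by norm_num) (by norm_num) hO
  · rw [if_neg h] at hO
    exact fd_chev (by simp) hF hs hna ⟨1, by decide⟩ 1 (by decide) (by decide) (c := 1) (by norm_num) (by norm_num)
      (by rw [hO, one_mul])

/-- **Field data for `F₄`.** -/
theorem fd_f4 : FD p ↥(chevF4.group F) := by
  obtain ⟨N, hN, hF⟩ := exists_N F p
  obtain ⟨hs, hna⟩ := S1054.result (F := F) chevF4 (by simp)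
  obtain ⟨h1, h2⟩ := gcd_le (a := 2) (b := p) (by norm_num)
  exact fd_chev (by simp) hF hs hna ⟨0, by decide⟩ 7 (by decide) (by decide +kernel) h1 (by omega) (S2122.result p N hF)

/-- **Field data for `E₆`.** -/
theorem fd_e6 : FD p ↥(chevE6.group F) := by
  obtain ⟨N, hN, hF⟩ := exists_N F p
  obtain ⟨hs, hna⟩ := S1054.result (F := F) chevE6 (by simp)
  obtain ⟨h1, h2⟩ := gcd_le (a := 3) (b := p ^ N - 1) (by norm_num)
  exact fd_chev (by simp) hF hs hna ⟨0, by decide⟩ 16 (by decide) (by decide +kernel) (by omega) (by omega)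
    (S2123.result p N hF)

/-- **Field data for `E₇`.** -/
theorem fd_e7 : FD p ↥(chevE7.group F) := by
  obtain ⟨N, hN, hF⟩ := exists_N F p
  obtain ⟨hs, hna⟩ := S1054.result (F := F) chevE7 (by simp)
  obtain ⟨h1, h2⟩ := gcd_le (a := 2) (b := p ^ N - 1) (by norm_num)
  exact fd_chev (by simp) hF hs hna ⟨0, by decide⟩ 1 (by decide) (by decide +kernel) h1 (by omega)
    (S2124.result p N hF)

/-- **Field data for `E₈`.** -/
theorem fd_e8 : FD p ↥(chevE8.group F) := by
  obtain ⟨N, hN, hF⟩ := exists_N F p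
  obtain ⟨hs, hna⟩ := S1054.result (F := F) chevE8 (by simp)
  exact fd_chev (by simp) hF hs hna ⟨0, by decide⟩ 14 (by decide) (by decide +kernel) (c := 1) one_pos (by norm_num)
    (by rw [one_mul]; exact S2125.result p N hF)

end Cfsg.Agent.H47.Fd
end

-- part: H47/Fd/TwA
section
/-!
# Field data for `²E₆`, `³D₄` (helper47, TEAM PPD, FD3)
-/

set_option autoImplicit false

namespace Cfsg.Agent.H47.Fd

open Cfsg.Lie Cfsg.Agent.H967.CopMat Cfsg.Agent.H967.CopChev Cfsg.Agent.ChevalleyStructure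
  Cfsg.Agent.ChevalleyStructure.Elts

section E6

open Cfsg.Agent.ChevalleyStructure.E6H1

variable {K : Type*} [Field K]

/-- the torus of the pair of nodes `p₁`, `p₆` -/
def cE (φ : K →+* K) : Kˣ →* (Fin chevE6.rank → Kˣ) where
  toFun z := mk6 z 1 1 1 1 (psi φ z)
  map_one' := ext6 rfl rfl rfl rfl rfl (map_one (psi φ))
  map_mul' a b := ext6 rfl (mul_one 1).symm (mul_one 1).symm (mul_one 1).symm (mul_one 1).symm (map_mul (psi φ) a b)

theorem cE_mem {φ : K →+* K} (hqq : ∀ t, φ (φ t) = t) (z : Kˣ) : cE φ z ∈ fixT φ := by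
  rw [mem_fixT]
  refine ext6 ?_ ?_ ?_ ?_ ?_ rfl
  · apply Units.ext
    exact hqq z
  · exact map_one (psi φ)
  · exact map_one (psi φ)
  · exact map_one (psi φ)
  · exact map_one (psi φ)

/-- the torus in `²E₆(q)` -/
noncomputable def torE {q : ℕ} {φ : K →+* K} (hφ : ∀ t, φ t = t ^ q) (hqq : ∀ t, φ (φ t) = t) :
    Kˣ →* ↥(twistedE6 K q) :=
  ((TorusCount.torusHom chevE6 K).comp (cE φ)).codRestrict (twistedE6 K q) fun z =>
    torusHom_mem_twisted (simpleDiag (by simp) K) hφ ⟨cE φ z, cE_mem hqq z⟩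

theorem coe_torE {q : ℕ} {φ : K →+* K} (hφ : ∀ t, φ t = t ^ q) (hqq : ∀ t, φ (φ t) = t) (z : Kˣ) :
    ((torE hφ hqq z : ↥(twistedE6 K q)) : GL chevE6.Idx K) = TorusCount.torusHom chevE6 K (cE φ z) := rfl

theorem torE_inj {q : ℕ} {φ : K →+* K} (hφ : ∀ t, φ t = t ^ q) (hqq : ∀ t, φ (φ t) = t) {z : Kˣ}
    (hz : torE hφ hqq z = 1) : z = 1 := by
  have h1 : TorusCount.torusHom chevE6 K (cE φ z) = 1 := congrArg Subtype.val hz
  obtain ⟨w, -, hw⟩ := exists_of_ker _ h1
  have h2' := congrFun hw (ix 2)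
  have h2 : (1 : Kˣ) = w⁻¹ := h2'
  have h3' := congrFun hw (ix 0)
  have h3 : z = w := h3'
  rw [h3, ← inv_inv w, ← h2, inv_one]

theorem fieldAut_torE {q : ℕ} {φ : K →+* K} (hφ : ∀ t, φ t = t ^ q) (hqq : ∀ t, φ (φ t) = t) (σ : K ≃+* K) (z : Kˣ) :
    fieldAut (Cfsg.Agent.H967.CopTw.stab_e6 (K := K) q) σ (torE hφ hqq z) =
      torE hφ hqq (Units.map ((σ : K →+* K) : K →* K) z) := by
  apply Subtype.ext
  rw [coe_fieldAut, coe_torE, coe_torE, map_torusHom]
  congr 1
  refine ext6 rfl ?_ ?_ ?_ ?_ ?_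
  · exact map_one _
  · exact map_one _
  · exact map_one _
  · exact map_one _
  · apply Units.ext
    show σ (φ z) = φ (σ z)
    rw [hφ, hφ, map_pow]

/-- **Field data for `²E₆`.** -/
theorem fd_2e6 {K : Type*} [Field K] [Fintype K] (p : ℕ) [hp : Fact p.Prime] [hc : CharP K p] {q : ℕ} (hq : IsPrimePow q)
    (hK : Fintype.card K = q ^ 2) : FD p ↥(twistedE6 K q) := by
  obtain ⟨p', f, hp', hc', hf, rfl, hK'⟩ := Cfsg.Agent.H565.CopTw.exists_params hq hK (by norm_num)
  obtain rfl : p' = p := CharP.eq K hc' hc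
  obtain ⟨φ, hφ, hqq⟩ := TwE6Basic.exists_frob hq hK
  obtain ⟨hs, hna⟩ := S1070.result hq hK
  have hqq' : ∀ t, (φ : K →+* K) ((φ : K →+* K) t) = t := by
    intro t
    have h1 := hqq t
    rw [← hφ, ← hφ] at h1
    exact h1
  obtain ⟨h1, h2⟩ := gcd_le (a := 3) (b := p' ^ f + 1) (by norm_num)
  refine FD.of_hom (center_eq_bot hs hna) hK' (fieldAut (Cfsg.Agent.H967.CopTw.stab_e6 (K := K) _)) (torE hφ hqq')
    (fieldAut_torE hφ hqq') (fun _ hz => torE_inj hφ hqq' hz) (c := Nat.gcd 3 (p' ^ f + 1)) (small_c h1 (by omega)) ?_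
  rw [S2130.result p' f hK' hf]
  ring

end E6

section D4

open Cfsg.Agent.ChevalleyStructure.SL2Hom Cfsg.Agent.H680
open Cfsg.Agent.Cit.HexD4 (pb0 pb0_up pb0_lo pb0_mem)

/-- **Field data for `³D₄`.** -/
theorem fd_3d4 {K : Type*} [Field K] [Fintype K] (p : ℕ) [hp : Fact p.Prime] [hc : CharP K p] {q : ℕ} (hq : IsPrimePow q)
    (hK : Fintype.card K = q ^ 3) : FD p ↥(twistedD4 K q) := by
  obtain ⟨p', f, hp', hc', hf, rfl, hK'⟩ := Cfsg.Agent.H565.CopTw.exists_params hq hK (by norm_num)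
  obtain rfl : p' = p := CharP.eq K hc' hc
  obtain ⟨φ, hφ⟩ := D4Fixed.exists_frob hq hK
  obtain ⟨hs, hna⟩ := S1071.result hq hK
  refine FD.of_hom (center_eq_bot hs hna) hK' (fieldAut (Cfsg.Agent.H967.CopTw.stab_d4 (K := K) _))
    (((pb0 (φ : K →+* K)).codRestrict (twistedD4 K (p' ^ f)) (pb0_mem hφ)).comp TRowBase.dgH) ?_ ?_ (c := 1)
    (small_c one_pos (by norm_num)) ?_
  · intro τ u
    apply Subtype.ext
    show Matrix.GeneralLinearGroup.map (τ : K →+* K) (pb0 φ (TRowBase.dgH u)) = pb0 φ (TRowBase.dgH _)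
    rw [TRowD4.map_pb0 φ (τ : K →+* K) (fun t => by rw [hφ, hφ, map_pow]), TRowBase.map_dgH]
  · intro u hu
    apply TRowBase.dgH_injective
    rw [map_one]
    apply CritD4.pb0_injective (φ : K →+* K)
    rw [map_one]
    exact congrArg Subtype.val hu
  · rw [one_mul, S2129.result p' f hK' hf]

end D4

end Cfsg.Agent.H47.Fd
end

-- part: H47/Fd/TwB
section
/-!
# Field data for `Sz(q)`, `²G₂(q)`, `²F₄(q)` (helper47, TEAM PPD, FD3)
-/

set_option autoImplicit false

namespace Cfsg.Agent.H47.Fd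

open Cfsg Cfsg.Lie Cfsg.Agent.H967.CopMat Cfsg.Agent.H967.CopSz

/-- **Field data for `Sz(q)`.** -/
theorem fd_sz {F : Type*} [Field F] [Fintype F] {m : ℕ} (hm : 1 ≤ m) (hF : Fintype.card F = 2 ^ (2 * m + 1)) :
    FD 2 ↥(Cfsg.Lie.Sz F (2 ^ (m + 1))) := by
  have : Fact (Nat.Prime 2) := ⟨Nat.prime_two⟩
  have hc : CharP F 2 := charP_of_card Nat.prime_two hF
  have H := Cfsg.Agent.LieRecognition.SzMatrix.good hF
  have hs : IsSimpleGroup ↥(Cfsg.Lie.Sz F (2 ^ (m + 1))) := S1162.result hm hF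
  have hnc : ¬ IsMulCommutative ↥(Cfsg.Lie.Sz F (2 ^ (m + 1))) := by
    intro h
    have h0 : (1 : F) ≠ 0 := one_ne_zero
    have h1 : H.w * H.u 1 0 = H.u 1 0 * H.w := IsMulCommutative.is_comm.comm _ _
    have h2 : H.w⁻¹ * H.u 1 0 * H.w = H.u 1 0 := by
      rw [mul_assoc, ← h1]
      group
    have h3 := H.inter_trivial (H.u 1 0) (H.u_mem_unip 1 0) (by rw [h2]; exact H.u_mem_borel 1 0)
    rw [← H.u_zero] at h3
    exact one_ne_zero (H.u_inj h3).1
  have hz : Subgroup.center ↥(Cfsg.Lie.Sz F (2 ^ (m + 1))) = ⊥ := center_eq_bot hs hnc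
  refine FD.of_hom hz hF (H70.SzOut.fieldAut H) (H88.RkSz.diag H)
    (fun τ u => H70.SzOut.fieldAut_d H τ u) (fun u hu => H.d_inj (hu.trans H.d_one.symm)) (c := 1)
    (small_c one_pos (by norm_num)) ?_
  rw [one_mul, S2126.result hm hF]

/-- **Field data for `²G₂(q)`.** -/
theorem fd_ree {K : Type*} [Field K] [Fintype K] {m : ℕ} (hm : 1 ≤ m) (hK : Fintype.card K = 3 ^ (2 * m + 1)) :
    FD 3 ↥(Cfsg.Lie.twistedG2 K (3 ^ m)) := by
  have : Fact (Nat.Prime 3) := ⟨Nat.prime_three⟩
  have hc : CharP K 3 := charP_of_card Nat.prime_three hK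
  obtain ⟨hs, hna⟩ := S1073.result hm hK
  obtain ⟨θ, c⟩ := Cfsg.Agent.ChevalleyStructure.Ree.Normal.exists_ctx hK
  obtain ⟨D, hD⟩ : ∃ D, D = Cfsg.Agent.ChevalleyStructure.Ree.Data.data c := ⟨_, rfl⟩
  let h := Cfsg.Agent.ChevalleyStructure.Ree.Data.T c
  let φ : Kˣ →* ↥(Cfsg.Lie.twistedG2 K (3 ^ m)) := { toFun := h, map_one' := D.h_one, map_mul' := D.h_mul }
  have hφ : Function.Injective φ := by
    intro a b hab
    have h1 : h a = h b := hab
    have h2 : Cfsg.Agent.ChevalleyStructure.Ree.Data.U K (3 ^ m) 0 0 0 * h a =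
        Cfsg.Agent.ChevalleyStructure.Ree.Data.U K (3 ^ m) 0 0 0 * h b := by rw [h1]
    exact (D.inj₁ _ _ _ _ _ _ _ _ h2).2.2.2
  refine FD.of_hom (center_eq_bot hs hna) hK (fieldAut (stab_g2 (K := K) (3 ^ m))) φ
    (fun τ u => (H71.FldAut.reeFld c).onH τ u) (fun u hu => hφ (hu.trans (map_one φ).symm)) (c := 1)
    (small_c one_pos (by norm_num)) ?_
  rw [one_mul, S2127.result hm hK]

/-- **Field data for `²F₄(q)`.** -/
theorem fd_2f4 {K : Type*} [Field K] [Fintype K] {m : ℕ} (hm : 1 ≤ m) (hK : Fintype.card K = 2 ^ (2 * m + 1)) :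
    FD 2 ↥(Cfsg.Lie.twistedF4 K (2 ^ m)) := by
  have : Fact (Nat.Prime 2) := ⟨Nat.prime_two⟩
  have hc : CharP K 2 := charP_of_card Nat.prime_two hK
  obtain ⟨hs, hna⟩ := S1072.result hm hK
  refine FD.of_hom (center_eq_bot hs hna) hK (fieldAut (stab_f4 (K := K) (2 ^ m))) (H680.XRowTwF4.tor hK)
    (H680.XRowTwF4.fieldAut_tor hK _) (fun u hu => H680.XRowTwF4.tor_inj hK hu) (c := 1)
    (small_c one_pos (by norm_num)) ?_
  rw [one_mul, S2128.result hm hK]

end Cfsg.Agent.H47.Fd
end

-- part: H100/Ppd/FieldAsm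
section
/-!
# TEAM PPD (S5948): a good prime (helper100)

`Row.good` : if the socle is of Lie type in the characteristic of `F`, some prime divisor of `m` divides its order.
-/

set_option autoImplicit false

namespace Cfsg.Agent.H100.Ppd

open Cfsg Cfsg.Geo Matrix
open Cfsg.Agent.H915.LD

universe u v w

variable {n : ℕ} {F : Type u} [Field F] [Finite F] {k m : ℕ} {P : Subgroup (GL (Fin n) F)}

theorem Row.good_of (h : Row k m P) {T : Type v} [Group T] (e : Soc P ≃* T) (p : ℕ) [Fact p.Prime] [CharP F p]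
    (hT : H462.Ppd.FD T p) : ∃ r, r.Prime ∧ r ∣ m ∧ r ∣ Nat.card (Soc P) := by
  obtain ⟨r, h1, h2, h3⟩ := H462.Ppd.good_of_FD h e p hT
  rw [← Nat.card_congr e.toEquiv] at h3
  exact ⟨r, h1, h2, h3⟩

theorem Row.good (h : Row k m P) (p : ℕ) [hp : Fact p.Prime] [CharP F p] (hT : IsLieTypeChar p (Soc P)) :
    ∃ r, r.Prime ∧ r ∣ m ∧ r ∣ Nat.card (Soc P) := by
  have hcard : ∀ (K : Type) [Field K] [Fintype K] [CharP K p], ∃ f, 1 ≤ f ∧ Nat.card K = p ^ f := by
    intro K _ _ _
    obtain ⟨f, -, hf⟩ := FiniteField.card K p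
    exact ⟨f, f.pos, by rw [Nat.card_eq_fintype_card, hf]⟩
  rcases hT with hT | hT | hT | hT | hT | hT | hT | hT | hT | hT | hT
  · obtain ⟨K, _, _, _, N, h1, h2, ⟨e⟩⟩ := hT
    exact h.good_of e p (H462.Ppd.fd_psl p h1 h2)
  · obtain ⟨K, _, _, _, N, h1, h2, ⟨e⟩⟩ := hT
    exact h.good_of e p (H462.Ppd.fd_psp p h1 h2)
  · obtain ⟨K, _, _, _, N, q, h0, h1, h2, ⟨e⟩⟩ := hT
    exact h.good_of e p (H462.Ppd.fd_psu p h0 h1 h2)
  · obtain ⟨K, _, _, _, N, h1, h2, ⟨e⟩⟩ := hT
    obtain ⟨f, hf, hK⟩ := hcard K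
    have hodd : Odd p := by
      rw [← Nat.card_eq_fintype_card, hK] at h2
      exact (Nat.odd_pow_iff (by omega)).1 h2 
    exact h.good_of e p (H14.PpdFD2.fd_odd hf hK hodd h1)
  · obtain ⟨K, _, _, _, N, h1, ⟨e⟩⟩ := hT
    obtain ⟨f, hf, hK⟩ := hcard K
    exact h.good_of e p (H14.PpdFD2.fd_plus hf hK h1)
  · obtain ⟨K, _, _, _, N, a, b, h1, h2, ⟨e⟩⟩ := hT
    obtain ⟨f, hf, hK⟩ := hcard K
    exact h.good_of e p (H14.PpdFD2.fd_minus hf hK h1 h2)
  · obtain ⟨K, _, _, _, hT⟩ := hT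
    rcases hT with ⟨h3, ⟨e⟩⟩ | ⟨⟨e⟩⟩ | ⟨⟨e⟩⟩ | ⟨⟨e⟩⟩ | ⟨⟨e⟩⟩
    · exact h.good_of e p (H47.Fd.fd_g2 p h3)
    · exact h.good_of e p (H47.Fd.fd_f4 p)
    · exact h.good_of e p (H47.Fd.fd_e6 p)
    · exact h.good_of e p (H47.Fd.fd_e7 p)
    · exact h.good_of e p (H47.Fd.fd_e8 p)
  · obtain ⟨K, _, _, _, q, hq, ⟨hK, ⟨e⟩⟩ | ⟨hK, ⟨e⟩⟩⟩ := hT
    · exact h.good_of e p (H47.Fd.fd_2e6 p hq hK)
    · exact h.good_of e p (H47.Fd.fd_3d4 p hq hK)
  · obtain ⟨rfl, K, _, _, μ, hμ, hK, ⟨e⟩⟩ := hT
    exact h.good_of e 2 (H47.Fd.fd_sz hμ hK)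
  · obtain ⟨rfl, K, _, _, μ, hμ, hK, ⟨e⟩⟩ := hT
    exact h.good_of e 2 (H47.Fd.fd_2f4 hμ hK)
  · obtain ⟨rfl, K, _, _, μ, hμ, hK, ⟨e⟩⟩ := hT
    exact h.good_of e 3 (H47.Fd.fd_ree hμ hK)

end Cfsg.Agent.H100.Ppd
end

private theorem dce_40b81aea574d : _root_.True := by
  try have : _root_.True := by simp only [_root_.Cfsg.Agent.H14.PpdFD2.torFun.eq_1]
  try have : _root_.True := by simp only [_root_.Cfsg.Agent.LieRecognition.SzMatrix.theta.congr_simp]
  exact _root_.True.intro
end

-- part: H12/Ppd/Exc2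
section
prune_inst 0x42068403d00020000000512122020042400019000200001f9a00142080753600d0229004e001804084e328100040000000000d000000000020004000005012090a8900031140c0424001f803006000000000000000000000000000000041004000000000
set_option linter.all false
open scoped Cfsg.Agent.FastGrp

-- part: H12/Ppd/Tools
section
/-!
# TEAM PPD (S5948): numeric tools (helper12)
-/

set_option autoImplicit false
set_option linter.unusedSectionVars false

namespace Cfsg.Agent.H12.Ppd

open Cfsg Cfsg.Geo Matrix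
open Cfsg.Agent.H915.LD Cfsg.Agent.H100.Ppd

universe u v w

/-- primes dividing `|Aut T|` divide `|T|` or `|Out T|` -/
theorem dvd_or {T : Type v} [Group T] [Finite T] {s : ℕ} (hs : s.Prime) (h : s ∣ Nat.card (MulAut T)) :
    s ∣ Nat.card T ∨ s ∣ Nat.card (Cfsg.Out T) := by
  have h1 : Nat.card (MulAut T) = Nat.card (Cfsg.Out T) * Nat.card (Inn T) :=
    Subgroup.card_eq_card_quotient_mul_card_subgroup _
  rw [h1] at h
  rcases hs.dvd_mul.1 h with h2 | h2
  · exact Or.inr h2
  · left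
    have h3 : Nat.card (Inn T) ∣ Nat.card T := by
      have : (Inn T) = (MulAut.conj : T →* MulAut T).range := rfl
      rw [this]
      exact Subgroup.card_range_dvd _
    exact h2.trans h3

/-- `|Aut T|` divides `|Out T| |T|` -/
theorem card_aut_dvd (T : Type v) [Group T] [Finite T] :
    Nat.card (MulAut T) ∣ Nat.card (Cfsg.Out T) * Nat.card T := by
  have h1 : Nat.card (MulAut T) = Nat.card (Cfsg.Out T) * Nat.card (Inn T) :=
    Subgroup.card_eq_card_quotient_mul_card_subgroup _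
  rw [h1]
  have h3 : Nat.card (Inn T) ∣ Nat.card T := by
    have : (Inn T) = (MulAut.conj : T →* MulAut T).range := rfl
    rw [this]
    exact Subgroup.card_range_dvd _
  exact mul_dvd_mul_left _ h3

variable {n : ℕ} {F : Type u} [Field F] [Finite F] {k m : ℕ} {P : Subgroup (GL (Fin n) F)}

/-- all prime divisors of `m` are large -/
theorem exists_prime_dvd {T : Type v} [Group T] [Finite T] (h : Row k m P) (e : Soc P ≃* T) :
    ∃ s, s.Prime ∧ n + 3 ≤ 2 * s ∧ 7 ≤ s ∧ (s ∣ Nat.card T ∨ s ∣ Nat.card (Cfsg.Out T)) := by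
  obtain ⟨s, hs, hsm⟩ := h.num.exists_prime
  exact ⟨s, hs, h.num.le_two_mul hs hsm, h.num.seven_le hs hsm, dvd_or hs (hsm.trans (h.dvd_card e))⟩

end Cfsg.Agent.H12.Ppd
end

-- part: H12/Ppd/Num
section
/-!
# TEAM PPD (S5948): numeric facts for the twisted groups (helper12)
-/

set_option autoImplicit false

namespace Cfsg.Agent.H12.Ppd

theorem le_of_dvd_of {s a B : ℕ} (h : s ∣ a) (ha : 0 < a) (hB : a ≤ B) : s ≤ B := (Nat.le_of_dvd ha h).trans hB

theorem sq_sub_one {a : ℕ} : a ^ 2 - 1 = (a + 1) * (a - 1) := by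
  have := Nat.sq_sub_sq a 1
  rwa [one_pow] at this

/-- `²E₆(q)` -/
theorem num_2e6 {q s : ℕ} (hq : 2 ≤ q) (hs : s.Prime)
    (h : s ∣ q ^ 36 * (q ^ 2 - 1) * (q ^ 5 + 1) * (q ^ 6 - 1) * (q ^ 8 - 1) * (q ^ 9 + 1) * (q ^ 12 - 1)) :
    2 * s < (q - 1) * q ^ 6 + 3 := by
  rcases Nat.lt_or_ge q 3 with h3 | h3
  · have hq2 : q = 2 := by omega
    subst hq2
    have h1 : 2 ^ 36 * (2 ^ 2 - 1) * (2 ^ 5 + 1) * (2 ^ 6 - 1) * (2 ^ 8 - 1) * (2 ^ 9 + 1) * (2 ^ 12 - 1) =
        2 ^ 36 * (3 * 33 * 21 * 3 * 15 * 17 * 27 * 19 * 21 * 3 * 13 * 5) := by norm_num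
    rw [h1] at h
    have h2 : s ≤ 33 := by
      rcases hs.dvd_mul.1 h with h | h
      · exact le_of_dvd_of (hs.dvd_of_dvd_pow h) (by norm_num) (by norm_num)
      · rcases hs.dvd_mul.1 h with h | h
        · rcases hs.dvd_mul.1 h with h | h
          · rcases hs.dvd_mul.1 h with h | h
            · rcases hs.dvd_mul.1 h with h | h
              · rcases hs.dvd_mul.1 h with h | h
                · rcases hs.dvd_mul.1 h with h | h
                  · rcases hs.dvd_mul.1 h with h | h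
                    · rcases hs.dvd_mul.1 h with h | h
                      · rcases hs.dvd_mul.1 h with h | h
                        · rcases hs.dvd_mul.1 h with h | h
                          · rcases hs.dvd_mul.1 h with h | h
                            all_goals exact le_of_dvd_of h (by norm_num) (by norm_num)
                          all_goals exact le_of_dvd_of h (by norm_num) (by norm_num)
                        all_goals exact le_of_dvd_of h (by norm_num) (by norm_num)
                      all_goals exact le_of_dvd_of h (by norm_num) (by norm_num)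
                    all_goals exact le_of_dvd_of h (by norm_num) (by norm_num)
                  all_goals exact le_of_dvd_of h (by norm_num) (by norm_num)
                all_goals exact le_of_dvd_of h (by norm_num) (by norm_num)
              all_goals exact le_of_dvd_of h (by norm_num) (by norm_num)
            all_goals exact le_of_dvd_of h (by norm_num) (by norm_num)
          all_goals exact le_of_dvd_of h (by norm_num) (by norm_num)
        all_goals exact le_of_dvd_of h (by norm_num) (by norm_num)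
    norm_num
    omega
  · have hp : ∀ i j : ℕ, i ≤ j → q ^ i ≤ q ^ j := fun i j hij => Nat.pow_le_pow_right (by omega) hij
    have h1 : ∀ i : ℕ, 1 ≤ i → 3 ≤ q ^ i := fun i hi => h3.trans (Nat.le_self_pow (by omega) q)
    have key : s ≤ q ^ 6 + 1 := by
      rcases hs.dvd_mul.1 h with h | h
      · rcases hs.dvd_mul.1 h with h | h
        · rcases hs.dvd_mul.1 h with h | h
          · rcases hs.dvd_mul.1 h with h | h
            · rcases hs.dvd_mul.1 h with h | h
              · rcases hs.dvd_mul.1 h with h | h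
                · refine le_of_dvd_of (hs.dvd_of_dvd_pow h) (by omega) ?_
                  have := Nat.le_self_pow (n := 6) (by norm_num) q
                  omega
                · have := hp 2 6 (by norm_num)
                  have := h1 2 (by norm_num)
                  exact le_of_dvd_of h (by omega) (by omega)
              · have := hp 5 6 (by norm_num)
                exact le_of_dvd_of h (by omega) (by omega)
            · have := h1 6 (by norm_num)
              exact le_of_dvd_of h (by omega) (by omega)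
          · have e : q ^ 8 - 1 = (q ^ 4 + 1) * (q ^ 4 - 1) := by rw [← sq_sub_one, ← pow_mul]
            rw [e] at h
            have := hp 4 6 (by norm_num)
            have := h1 4 (by norm_num)
            rcases hs.dvd_mul.1 h with h | h
            · exact le_of_dvd_of h (by omega) (by omega)
            · exact le_of_dvd_of h (by omega) (by omega)
        · obtain ⟨d, hd⟩ := Nat.exists_eq_add_of_le (hp 3 6 (by norm_num))
          have e : q ^ 9 + 1 = (q ^ 3 + 1) * (d + 1) := by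
            have e1 : q ^ 9 = q ^ 3 * q ^ 6 := by rw [← pow_add]
            have e2 : q ^ 6 = q ^ 3 * q ^ 3 := by rw [← pow_add]
            rw [e1]
            conv_lhs => rw [hd]
            rw [e2] at hd
            rw [mul_add, hd]
            ring
          rw [e] at h
          have := hp 3 6 (by norm_num)
          rcases hs.dvd_mul.1 h with h | h
          · exact le_of_dvd_of h (by omega) (by omega)
          · exact le_of_dvd_of h (by omega) (by omega)
      · have e : q ^ 12 - 1 = (q ^ 6 + 1) * (q ^ 6 - 1) := by rw [← sq_sub_one, ← pow_mul]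
        rw [e] at h
        have := h1 6 (by norm_num)
        rcases hs.dvd_mul.1 h with h | h
        · exact le_of_dvd_of h (by omega) (by omega)
        · exact le_of_dvd_of h (by omega) (by omega)
    have h2 : 2 * q ^ 6 ≤ (q - 1) * q ^ 6 := Nat.mul_le_mul_right _ (by omega)
    omega

/-- `³D₄(q)` -/
theorem num_3d4 {q s : ℕ} (hq : 3 ≤ q) (hs : s.Prime)
    (h : s ∣ q ^ 12 * (q ^ 2 - 1) * (q ^ 6 - 1) * (q ^ 8 + q ^ 4 + 1)) :
    2 * s < (q - 1) * q ^ 4 + 3 := by
  have hp : ∀ i j : ℕ, i ≤ j → q ^ i ≤ q ^ j := fun i j hij => Nat.pow_le_pow_right (by omega) hij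
  have h1 : ∀ i : ℕ, 1 ≤ i → 3 ≤ q ^ i := fun i hi => hq.trans (Nat.le_self_pow (by omega) q)
  have key : s ≤ q ^ 4 + 1 := by
    rcases hs.dvd_mul.1 h with h | h
    · rcases hs.dvd_mul.1 h with h | h
      · rcases hs.dvd_mul.1 h with h | h
        · refine le_of_dvd_of (hs.dvd_of_dvd_pow h) (by omega) ?_
          have := Nat.le_self_pow (n := 4) (by norm_num) q
          omega
        · have := hp 2 4 (by norm_num)
          have := h1 2 (by norm_num)
          exact le_of_dvd_of h (by omega) (by omega)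
      · have e : q ^ 6 - 1 = (q ^ 3 + 1) * (q ^ 3 - 1) := by rw [← sq_sub_one, ← pow_mul]
        rw [e] at h
        have := h1 3 (by norm_num)
        have := hp 3 4 (by norm_num)
        rcases hs.dvd_mul.1 h with h | h
        · exact le_of_dvd_of h (by omega) (by omega)
        · exact le_of_dvd_of h (by omega) (by omega)
    · obtain ⟨d, hd⟩ := Nat.exists_eq_add_of_le (hp 2 4 (by norm_num))
      have e : q ^ 8 + q ^ 4 + 1 = (q ^ 4 + q ^ 2 + 1) * (d + 1) := by
        have e1 : q ^ 8 = q ^ 4 * q ^ 4 := by rw [← pow_add]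
        have e2 : q ^ 4 = q ^ 2 * q ^ 2 := by rw [← pow_add]
        have e3 : q ^ 2 * q ^ 2 = q ^ 2 + d := by rw [← e2, hd]
        rw [e1, hd]
        linarith only [hd]
      have e' : q ^ 4 + q ^ 2 + 1 = (q ^ 2 + q + 1) * (q ^ 2 - q + 1) := by
        obtain ⟨d, hd⟩ := Nat.exists_eq_add_of_le (hp 1 2 (by norm_num))
        rw [pow_one] at hd
        have e2 : q ^ 4 = q ^ 2 * q ^ 2 := by rw [← pow_add]
        have e3 : q * q = q + d := by rw [← hd]; ring
        rw [e2, hd, Nat.add_sub_cancel_left]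
        linarith only [hd]
      rw [e, e'] at h
      have h5 := hp 1 4 (by norm_num)
      have h6 := hp 2 4 (by norm_num)
      have h7 : 3 * q ^ 2 ≤ q ^ 4 := by
        have e2 : q ^ 4 = q ^ 2 * q ^ 2 := by rw [← pow_add]
        rw [e2]
        exact Nat.mul_le_mul_right _ (h1 2 (by norm_num))
      have h8 := hp 1 2 (by norm_num)
      rw [pow_one] at h5 h8
      rcases hs.dvd_mul.1 h with h | h
      · rcases hs.dvd_mul.1 h with h | h
        · exact le_of_dvd_of h (by omega) (by omega)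
        · exact le_of_dvd_of h (by omega) (by omega)
      · exact le_of_dvd_of h (by omega) (by omega)
  have h2 : 2 * q ^ 4 ≤ (q - 1) * q ^ 4 := Nat.mul_le_mul_right _ (by omega)
  omega

/-- `²F₄(q)`, `t ^ 2 = 2 q` -/
theorem num_2f4 {q t s : ℕ} (hq : 8 ≤ q) (ht : t * t = 2 * q) (htq : 2 * t ≤ q) (hs : s.Prime)
    (h : s ∣ q ^ 12 * (q - 1) * (q ^ 3 + 1) * (q ^ 4 - 1) * (q ^ 6 + 1)) :
    2 * s < (q - 1) * q ^ 2 + 3 := by
  have hp : ∀ i j : ℕ, i ≤ j → q ^ i ≤ q ^ j := fun i j hij => Nat.pow_le_pow_right (by omega) hij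
  have h1 : ∀ i : ℕ, 1 ≤ i → 8 ≤ q ^ i := fun i hi => hq.trans (Nat.le_self_pow (by omega) q)
  have hq2 : 8 * q ≤ q ^ 2 := by rw [pow_two]; exact Nat.mul_le_mul_right _ hq
  have key : s ≤ 2 * q ^ 2 + 1 := by
    rcases hs.dvd_mul.1 h with h | h
    · rcases hs.dvd_mul.1 h with h | h
      · rcases hs.dvd_mul.1 h with h | h
        · rcases hs.dvd_mul.1 h with h | h
          · refine le_of_dvd_of (hs.dvd_of_dvd_pow h) (by omega) ?_
            omega
          · exact le_of_dvd_of h (by omega) (by omega)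
        · obtain ⟨d, hd⟩ := Nat.exists_eq_add_of_le (hp 1 2 (by norm_num))
          rw [pow_one] at hd
          have e3 : q * q = q + d := by rw [← hd]; ring
          have e : q ^ 3 + 1 = (q + 1) * (d + 1) := by
            have e1 : q ^ 3 = q * (q * q) := by ring
            rw [e1, e3]
            linarith only [hd]
          rw [e] at h
          rcases hs.dvd_mul.1 h with h | h
          · exact le_of_dvd_of h (by omega) (by omega)
          · exact le_of_dvd_of h (by omega) (by omega)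
      · have e : q ^ 4 - 1 = (q ^ 2 + 1) * (q ^ 2 - 1) := by rw [← sq_sub_one, ← pow_mul]
        rw [e] at h
        have := h1 2 (by norm_num)
        rcases hs.dvd_mul.1 h with h | h
        · exact le_of_dvd_of h (by omega) (by omega)
        · exact le_of_dvd_of h (by omega) (by omega)
    · obtain ⟨b, hb⟩ : ∃ b, q ^ 2 + q + 1 = t * q + t + b := by
        apply Nat.exists_eq_add_of_le
        nlinarith only [htq]
      have e : q ^ 6 + 1 = (q ^ 2 + 1) * ((q ^ 2 + t * q + q + t + 1) * b) := by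
        have e1 : (t * q + t) * (t * q + t) = 2 * q * (q + 1) * (q + 1) := by
          calc (t * q + t) * (t * q + t) = (t * t) * (q + 1) * (q + 1) := by ring
            _ = _ := by rw [ht]
        have e2 : (q ^ 2 + q + 1) * (q ^ 2 + q + 1) = (t * q + t) * (t * q + t) + (q ^ 2 + t * q + q + t + 1) * b := by
          have : (q ^ 2 + t * q + q + t + 1) = (t * q + t + b) + (t * q + t) := by rw [← hb]; ring
          rw [this, hb]
          ring
        have e3 : (q ^ 2 + t * q + q + t + 1) * b + q ^ 2 = q ^ 4 + 1 := by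
          rw [e1] at e2
          linarith only [e2]
        have e4 : (q ^ 2 + 1) * ((q ^ 2 + t * q + q + t + 1) * b) + (q ^ 2 + 1) * q ^ 2 = (q ^ 2 + 1) * (q ^ 4 + 1) := by
          rw [← mul_add, e3]
        linarith only [e4]
      rw [e] at h
      have h9 : t * q ≤ q ^ 2 := by nlinarith only [htq]
      have h10 : 2 * (t * q) ≤ q ^ 2 := by nlinarith only [htq]
      have hb0 : 0 < b := by
        rcases Nat.eq_zero_or_pos b with hb0 | hb0
        · rw [hb0, mul_zero, mul_zero] at e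
          omega
        · exact hb0
      rcases hs.dvd_mul.1 h with h | h
      · exact le_of_dvd_of h (by omega) (by omega)
      · rcases hs.dvd_mul.1 h with h | h
        · exact le_of_dvd_of h (by omega) (by omega)
        · exact le_of_dvd_of h hb0 (by omega)
  have h2 : 7 * q ^ 2 ≤ (q - 1) * q ^ 2 := Nat.mul_le_mul_right _ (by omega)
  have := h1 2 (by norm_num)
  omega

end Cfsg.Agent.H12.Ppd
end

-- part: H12/Ppd/Exc2
section
/-!
# TEAM PPD (S5948): `²E₆(q)`, `³D₄(q)`, `²F₄(q)`, the Tits group (helper12)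
-/

set_option autoImplicit false
set_option linter.unusedSectionVars false
set_option linter.style.haveILetI false

namespace Cfsg.Agent.H12.Ppd

open Cfsg Cfsg.Geo Matrix
open Cfsg.Agent.H915.LD Cfsg.Agent.H100.Ppd

universe u v w

variable {n : ℕ} {F : Type u} [Field F] [Finite F] {k m : ℕ} {P : Subgroup (GL (Fin n) F)}

/-- `q = p ^ f` -/
theorem exists_pf {K : Type v} [Field K] [Fintype K] {q d : ℕ} (hq : IsPrimePow q) (hd : 1 ≤ d)
    (hK : Fintype.card K = q ^ d) : ∃ p f : ℕ, p.Prime ∧ 1 ≤ f ∧ q = p ^ f ∧ CharP K p := by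
  obtain ⟨p, f, hp, hf, rfl⟩ := hq
  have hp' := hp.nat_prime
  refine ⟨p, f, hp', hf, rfl, ?_⟩
  obtain ⟨r, hr⟩ := CharP.exists K
  obtain ⟨j, hrp, hj⟩ := FiniteField.card K r
  have h1 : r ∣ (p ^ f) ^ d := by rw [← hK, hj]; exact dvd_pow_self r j.pos.ne'
  have h2 : r = p := (Nat.prime_dvd_prime_iff_eq hrp hp').1 (hrp.dvd_of_dvd_pow (hrp.dvd_of_dvd_pow h1))
  rwa [← h2]

theorem lt_self_pow' {p f : ℕ} (hp : p.Prime) : f < p ^ f := Nat.lt_pow_self hp.one_lt

/-- **`²E₆(q)`** -/
theorem row_2e6 {K : Type v} [Field K] [Fintype K] {q₀ r : ℕ} (hq : IsPrimePow q₀) (hK : Fintype.card K = q₀ ^ 2)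
    [CharP K r] (hrF : (r : F) ≠ 0) (h : Row k m P) (e : Soc P ≃* Lie.twistedE6 K q₀) : False := by
  have hn := h.le_of_ls e hrF (H203.LS.TwE6.ls hq hK)
  haveI : Finite ↥(Lie.twistedE6 K q₀) := Finite.of_equiv _ e.toEquiv
  obtain ⟨s, hs, h2, h7, hd⟩ := exists_prime_dvd h e
  obtain ⟨p, f, hp, hf, hqp, hc⟩ := exists_pf hq (by norm_num) hK
  have hq2 : 2 ≤ q₀ := hq.two_le
  rcases hd with hd | hd
  · have h1 := Cfsg.Agent.S1066.result hq hK
    have h3 := num_2e6 hq2 hs (h1 ▸ Dvd.dvd.mul_left hd _)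
    omega
  · haveI : Fact p.Prime := ⟨hp⟩
    rw [hqp, Cfsg.Agent.S2130.result p f (by rw [hK, hqp, ← pow_mul, mul_comm]) hf] at hd
    have h5 : s ≤ f := by
      rcases hs.dvd_mul.1 hd with hd | hd
      · rcases hs.dvd_mul.1 hd with hd | hd
        · have := Nat.le_of_dvd (by norm_num) hd
          omega
        · have := Nat.le_of_dvd (by norm_num) (hd.trans (Nat.gcd_dvd_left _ _))
          omega
      · exact Nat.le_of_dvd hf hd
    have h6 := lt_self_pow' (f := f) hp
    rw [← hqp] at h6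
    have h8 : q₀ ^ 6 ≤ (q₀ - 1) * q₀ ^ 6 := Nat.le_mul_of_pos_left _ (by omega)
    have h9 : 2 * q₀ ≤ q₀ ^ 6 := by
      calc 2 * q₀ ≤ q₀ * q₀ := Nat.mul_le_mul_right _ hq2
        _ = q₀ ^ 2 := (pow_two _).symm
        _ ≤ q₀ ^ 6 := Nat.pow_le_pow_right (by omega) (by norm_num)
    omega

/-- **`³D₄(q)`** -/
theorem row_3d4 {K : Type v} [Field K] [Fintype K] {q₀ r : ℕ} (hq : IsPrimePow q₀) (hK : Fintype.card K = q₀ ^ 3)
    [CharP K r] (hrF : (r : F) ≠ 0) (h : Row k m P) (e : Soc P ≃* Lie.twistedD4 K q₀) : False := by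
  have hn := h.le_of_ls e hrF (H203.LS.TwD4.ls hq hK)
  haveI : Finite ↥(Lie.twistedD4 K q₀) := Finite.of_equiv _ e.toEquiv
  obtain ⟨s, hs, h2, h7, hd⟩ := exists_prime_dvd h e
  obtain ⟨p, f, hp, hf, hqp, hc⟩ := exists_pf hq (by norm_num) hK
  haveI : Fact p.Prime := ⟨hp⟩
  have hq2 : 2 ≤ q₀ := hq.two_le
  have hout : Nat.card (Cfsg.Out ↥(Lie.twistedD4 K q₀)) = 3 * f := by
    rw [hqp, Cfsg.Agent.S2129.result p f (by rw [hK, hqp, ← pow_mul, mul_comm]) hf]
  have h1 := Cfsg.Agent.S1067.result hq hK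
  have h6 := lt_self_pow' (f := f) hp
  rw [← hqp] at h6
  rcases Nat.lt_or_ge q₀ 3 with h3 | h3
  · have hq2 : q₀ = 2 := by omega
    subst hq2
    have hf1 : f = 1 := by omega
    rw [hf1] at hout
    have hdvd := card_aut_dvd ↥(Lie.twistedD4 K 2)
    rw [hout, h1] at hdvd
    have hnum := h.num
    have hk := hnum.nlt
    norm_num only [] at hn hdvd
    refine hnum.kill (r₀ := 13) (by omega) ?_ ?_
    · intro r hr hrm
      have h8 := hnum.le_two_mul hr hrm
      have h9 := (hrm.trans (h.dvd_card e)).trans hdvd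
      rw [show (634023936 : ℕ) = 2 ^ 12 * 3 ^ 5 * 7 ^ 2 * 13 by norm_num] at h9
      rcases hr.dvd_mul.1 h9 with h9 | h9
      · rcases hr.dvd_mul.1 h9 with h9 | h9
        · rcases hr.dvd_mul.1 h9 with h9 | h9
          · have := Nat.le_of_dvd (by norm_num) (hr.dvd_of_dvd_pow h9)
            omega
          · have := Nat.le_of_dvd (by norm_num) (hr.dvd_of_dvd_pow h9)
            omega
        · have := Nat.le_of_dvd (by norm_num) (hr.dvd_of_dvd_pow h9)
          omega
      · exact (Nat.prime_dvd_prime_iff_eq hr (by norm_num)).1 h9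
    · intro hsq
      have h9 := (hsq.trans (h.dvd_card e)).trans hdvd
      norm_num at h9
  · rcases hd with hd | hd
    · rw [h1] at hd
      have h5 := num_3d4 h3 hs hd
      omega
    · rw [hout] at hd
      have h5 : s ≤ f := by
        rcases hs.dvd_mul.1 hd with hd | hd
        · have := Nat.le_of_dvd (by norm_num) hd
          omega
        · exact Nat.le_of_dvd hf hd
      have h8 : q₀ ^ 4 ≤ (q₀ - 1) * q₀ ^ 4 := Nat.le_mul_of_pos_left _ (by omega)
      have h9 : 2 * q₀ ≤ q₀ ^ 4 := by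
        calc 2 * q₀ ≤ q₀ * q₀ := Nat.mul_le_mul_right _ hq2
          _ = q₀ ^ 2 := (pow_two _).symm
          _ ≤ q₀ ^ 4 := Nat.pow_le_pow_right (by omega) (by norm_num)
      omega

/-- **`²F₄(q)`** -/
theorem row_2f4 (h2 : (2 : F) ≠ 0) (h : Row k m P) (hT : Lie.Iso2F4 (Soc P)) : False := by
  obtain ⟨K, _, _, μ, hμ, hK, ⟨e⟩⟩ := hT
  have hn := h.le_of_ls e (by exact_mod_cast h2) (H203.LS.TwF4.ls hμ hK)
  haveI : Finite ↥(Lie.twistedF4 K (2 ^ μ)) := Finite.of_equiv _ e.toEquiv
  obtain ⟨s, hs, h2', h7, hd⟩ := exists_prime_dvd h e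
  rw [Nat.card_eq_fintype_card, hK] at hn
  obtain ⟨Q, hQ⟩ : ∃ Q, Q = 2 ^ (2 * μ + 1) := ⟨_, rfl⟩
  obtain ⟨t, ht⟩ : ∃ t, t = 2 ^ (μ + 1) := ⟨_, rfl⟩
  have hQ8 : 8 ≤ Q := by
    rw [hQ]
    calc 8 = 2 ^ 3 := by norm_num
      _ ≤ 2 ^ (2 * μ + 1) := Nat.pow_le_pow_right (by norm_num) (by omega)
  have htt : t * t = 2 * Q := by
    rw [ht, hQ, ← pow_add, ← pow_succ']
    congr 1
    omega
  have htQ : 2 * t ≤ Q := by
    rw [ht, hQ, ← pow_succ']
    exact Nat.pow_le_pow_right (by norm_num) (by omega)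
  rw [← hQ] at hn
  rcases hd with hd | hd
  · rw [Cfsg.Agent.S1068.result hK, ← hQ] at hd
    have := num_2f4 hQ8 htt htQ hs hd
    omega
  · rw [Cfsg.Agent.S2128.result hμ hK] at hd
    have h5 := Nat.le_of_dvd (by omega) hd
    have h6 := lt_self_pow' (f := 2 * μ + 1) Nat.prime_two
    rw [← hQ] at h6
    have h8 : 7 * Q ^ 2 ≤ (Q - 1) * Q ^ 2 := Nat.mul_le_mul_right _ (by omega)
    have h9 : Q ≤ Q ^ 2 := Nat.le_self_pow (by norm_num) Q
    omega

/-- **The Tits group** (all characteristics) -/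
theorem row_tits (h : Row k m P) (hT : Lie.IsoTits (Soc P)) : False := by
  have hout := H867.TitsOut.card_out_le hT
  obtain ⟨e⟩ := hT
  haveI : Finite Lie.TitsGroup := Finite.of_equiv _ e.toEquiv
  haveI : Finite (MulAut (Soc P)) := inferInstance
  haveI : Finite (Cfsg.Out (Soc P)) := Quotient.finite _
  have hcard : Nat.card (Soc P) = 2 ^ 11 * 3 ^ 3 * 5 ^ 2 * 13 := by
    rw [Nat.card_congr e.toEquiv]
    exact Cfsg.Agent.S1074.result.2.2.2
  have hout' : Nat.card (Cfsg.Out (Soc P)) ∣ 2 := by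
    have h3 : 0 < Nat.card (Cfsg.Out (Soc P)) := Nat.card_pos
    have h4 : Nat.card (Cfsg.Out (Soc P)) = 1 ∨ Nat.card (Cfsg.Out (Soc P)) = 2 := by omega
    rcases h4 with h4 | h4 <;> rw [h4]
    norm_num
  have hdvd : Nat.card (MulAut (Soc P)) ∣ 2 ^ 12 * 3 ^ 3 * 5 ^ 2 * 13 := by
    refine (card_aut_dvd (Soc P)).trans ?_
    rw [hcard, show (2 : ℕ) ^ 12 * 3 ^ 3 * 5 ^ 2 * 13 = 2 * (2 ^ 11 * 3 ^ 3 * 5 ^ 2 * 13) by norm_num]
    exact mul_dvd_mul_right hout' _
  have h6 := h.num.six_le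
  refine h.kill (MulEquiv.refl _) hdvd (r₀ := 13) (by omega) ?_ (by norm_num)
  intro r hr h9 _ h7
  rcases hr.dvd_mul.1 h9 with h9 | h9
  · rcases hr.dvd_mul.1 h9 with h9 | h9
    · rcases hr.dvd_mul.1 h9 with h9 | h9
      · have := Nat.le_of_dvd (by norm_num) (hr.dvd_of_dvd_pow h9)
        omega
      · have := Nat.le_of_dvd (by norm_num) (hr.dvd_of_dvd_pow h9)
        omega
    · have := Nat.le_of_dvd (by norm_num) (hr.dvd_of_dvd_pow h9)
      omega
  · exact (Nat.prime_dvd_prime_iff_eq hr (by norm_num)).1 h9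

end Cfsg.Agent.H12.Ppd
end
end
end
end
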